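import Cfsg.Prelude.Def_Transfer
import Cfsg.Agent.H130.GLn

/-!
# Simple groups with a Sylow `7`-subgroup of order `7 ^ 5` and small abelian `7`-subgroups: basics (helper496)

`Hyp G` : the `7`-part of `|G|` is `7 ^ 5` and abelian `7`-subgroups have order at most `7 ^ 3`.
* `Hyp.of_sylow` : exponent `7` and rank at most three are enough;
* `Hyp.false_of_surj` : `G` is not a quotient of a group with abelian Sylow `7`-subgroups;
* `Hyp.false_of_GL` : `G` is not a quotient of a subgroup of `GL_n(q)`, `n < 7 * ord_7(q)`;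
* `Hyp.false_of_prod` : `G` does not contain a product of two groups of order divisible by `49`.
-/

set_option autoImplicit false

namespace Cfsg.Agent.H496.Sev

open Cfsg

universe u v w

instance fact7 : Fact (Nat.Prime 7) := ⟨by norm_num⟩

/-- the `7`-part of the order is `7 ^ 5`, abelian `7`-subgroups have order at most `7 ^ 3` -/
structure Hyp (G : Type u) [Group G] : Prop where
  val : (Nat.card G).factorization 7 = 5
  small : ∀ A : Subgroup G, IsMulCommutative A → IsPGroup 7 A → Nat.card A ≤ 7 ^ 3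

theorem Hyp.of_sylow {G : Type u} [Group G] [Finite G] (P : Sylow 7 G) (hcard : Nat.card P = 7 ^ 5)
    (hexp : ∀ x ∈ P, x ^ 7 = 1)
    (hrank : ∀ A : Subgroup G, IsElementaryAbelian 7 A → Nat.card A ≤ 7 ^ 3) : Hyp G := by
  constructor
  · have h := P.card_eq_multiplicity
    rw [hcard] at h
    exact (Nat.pow_right_injective (le_refl 2 |>.trans (by norm_num)) h).symm
  · intro A hA hp
    refine hrank A ⟨hA, fun a ha => ?_⟩
    obtain ⟨Q, hQ⟩ := hp.exists_le_sylow
    obtain ⟨g, hg⟩ := MulAction.exists_smul_eq G Q P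
    have h1 : g * a * g⁻¹ ∈ P := by
      rw [← hg]
      exact Subgroup.smul_mem_pointwise_smul a (MulAut.conj g) (Q : Subgroup G) (hQ ha)
    have h2 := hexp _ h1
    have h3 : (g * a * g⁻¹) ^ 7 = g * a ^ 7 * g⁻¹ := by
      rw [conj_pow]
    rw [h3] at h2
    have h4 : a ^ 7 = g⁻¹ * (g * a ^ 7 * g⁻¹) * g := by group
    rw [h4, h2]
    group

theorem Hyp.congr {G : Type u} {H : Type v} [Group G] [Group H] (h : Hyp G) (e : G ≃* H) : Hyp H := by
  constructor
  · rw [← Nat.card_congr e.toEquiv]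
    exact h.val
  · intro A hA hp
    have h1 := h.small (A.comap e.toMonoidHom) ?_ ?_
    · rwa [Nat.card_congr (A.comap e.toMonoidHom |>.equivMapOfInjective e.toMonoidHom e.injective).toEquiv,
        Subgroup.map_comap_eq_self_of_surjective e.surjective] at h1
    · constructor
      constructor
      intro a b
      apply Subtype.ext
      apply e.injective
      have h2 := hA.is_comm.comm ⟨e a.1, a.2⟩ ⟨e b.1, b.2⟩
      have h3 : e a.1 * e b.1 = e b.1 * e a.1 := congrArg Subtype.val h2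
      change e (a.1 * b.1) = e (b.1 * a.1)
      rw [map_mul, map_mul, h3]
    · intro a
      obtain ⟨k, hk⟩ := hp ⟨e a.1, a.2⟩
      refine ⟨k, Subtype.ext (e.injective ?_)⟩
      have h3 : (e a.1) ^ 7 ^ k = 1 := congrArg Subtype.val hk
      change e (a.1 ^ 7 ^ k) = e 1
      rw [map_pow, h3, map_one]

variable {G : Type u} [Group G] [Finite G]

/-- Sylow subgroups are not abelian -/
theorem Hyp.false_of_comm (h : Hyp G) (P : Sylow 7 G) (hP : ∀ x ∈ P, ∀ y ∈ P, x * y = y * x) : False := by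
  have h1 := h.small P ⟨⟨fun a b => Subtype.ext (hP a.1 a.2 b.1 b.2)⟩⟩ P.isPGroup'
  rw [P.card_eq_multiplicity, h.val] at h1
  norm_num at h1

theorem Hyp.false_of_surj (h : Hyp G) {H : Type v} [Group H] [Finite H] (φ : H →* G)
    (hφ : Function.Surjective φ) (Q : Sylow 7 H) (hQ : ∀ x ∈ Q, ∀ y ∈ Q, x * y = y * x) : False := by
  refine h.false_of_comm (Q.mapSurjective hφ) ?_
  intro x hx y hy
  have hx1 : x ∈ ((Q.mapSurjective hφ : Sylow 7 G) : Subgroup G) := hx
  have hy1 : y ∈ ((Q.mapSurjective hφ : Sylow 7 G) : Subgroup G) := hy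
  rw [Sylow.coe_mapSurjective] at hx1 hy1
  obtain ⟨a, ha, rfl⟩ := hx1
  obtain ⟨b, hb, rfl⟩ := hy1
  rw [← map_mul, ← map_mul, hQ a ha b hb]

/-- commutative `7`-subgroups of `GL_n(q)` -/
theorem comm_of_GL {F : Type w} [Field F] [Fintype F] {q n : ℕ} (hq : Fintype.card F = q) (h7 : ¬ 7 ∣ q)
    (hn : n < 7 * orderOf (q : ZMod 7)) {H : Type v} [Group H] [Finite H]
    (i : H →* Matrix.GeneralLinearGroup (Fin n) F) (hi : Function.Injective i) (Q : Sylow 7 H) :
    ∀ x ∈ Q, ∀ y ∈ Q, x * y = y * x := by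
  classical
  intro x hx y hy
  have hQ : IsPGroup 7 ((Q : Subgroup H).map i) := Q.isPGroup'.map i
  obtain ⟨S, hS⟩ := hQ.exists_le_sylow
  obtain ⟨e⟩ := H130.GLn.sylow_GL hq h7 n (fun j hj hd h7j => by
    have h1 := (H130.Homo.coprime_orderOf h7).mul_dvd_of_dvd_of_dvd h7j hd
    have h2 := Finset.mem_Ioc.1 hj
    have h3 := Nat.le_of_dvd h2.1 h1
    omega) S
  have hx' : i x ∈ S := hS ⟨x, hx, rfl⟩
  have hy' : i y ∈ S := hS ⟨y, hy, rfl⟩
  have h1 : (⟨i x, hx'⟩ : S) * ⟨i y, hy'⟩ = ⟨i y, hy'⟩ * ⟨i x, hx'⟩ := by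
    apply e.injective
    rw [map_mul, map_mul, mul_comm]
  have h2 := congrArg Subtype.val h1
  apply hi
  rw [map_mul, map_mul]
  exact h2

theorem Hyp.false_of_GL (h : Hyp G) {F : Type w} [Field F] [Fintype F] {q n : ℕ} (hq : Fintype.card F = q)
    (h7 : ¬ 7 ∣ q) (hn : n < 7 * orderOf (q : ZMod 7)) {H : Type v} [Group H] [Finite H]
    (i : H →* Matrix.GeneralLinearGroup (Fin n) F) (hi : Function.Injective i) (φ : H →* G)
    (hφ : Function.Surjective φ) : False := by
  obtain ⟨Q⟩ : Nonempty (Sylow 7 H) := inferInstance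
  exact h.false_of_surj φ hφ Q (comm_of_GL hq h7 hn i hi Q)

/-- a group of order divisible by `49` has an abelian subgroup of order `49` -/
theorem exists_abelian {X : Type v} [Group X] [Finite X] (hX : 49 ∣ Nat.card X) :
    ∃ A : Subgroup X, Nat.card A = 7 ^ 2 ∧ IsMulCommutative A ∧ IsPGroup 7 A := by
  obtain ⟨A, hA⟩ := Sylow.exists_subgroup_card_pow_prime 7 (n := 2) (by simpa using hX)
  exact ⟨A, hA, IsPGroup.isMulCommutative_of_card_eq_prime_sq hA, IsPGroup.of_card hA⟩

theorem Hyp.false_of_prod (h : Hyp G) {X : Type v} {Y : Type w} [Group X] [Finite X] [Group Y] [Finite Y]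
    (hX : 49 ∣ Nat.card X) (hY : 49 ∣ Nat.card Y) (f : X × Y →* G)
    (hf : ∀ z : X × Y, (∃ k : ℕ, z ^ 7 ^ k = 1) → f z = 1 → z = 1) : False := by
  obtain ⟨A, hA, hAc, hAp⟩ := exists_abelian hX
  obtain ⟨B, hB, hBc, hBp⟩ := exists_abelian hY
  have hp : ∀ z ∈ A.prod B, ∃ k : ℕ, z ^ 7 ^ k = 1 := by
    intro z hz
    obtain ⟨hz1, hz2⟩ := Subgroup.mem_prod.1 hz
    obtain ⟨k, hk⟩ := hAp ⟨z.1, hz1⟩
    obtain ⟨l, hl⟩ := hBp ⟨z.2, hz2⟩
    refine ⟨k + l, Prod.ext ?_ ?_⟩
    · have h1 := congrArg Subtype.val hk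
      simp only [Subgroup.coe_pow, Subgroup.coe_one] at h1
      rw [Prod.pow_fst, pow_add, pow_mul, h1, one_pow, Prod.fst_one]
    · have h1 := congrArg Subtype.val hl
      simp only [Subgroup.coe_pow, Subgroup.coe_one] at h1
      rw [Prod.pow_snd, pow_add, mul_comm, pow_mul, h1, one_pow, Prod.snd_one]
  have hc : Nat.card ((A.prod B).map f) = 7 ^ 4 := by
    have h1 : Function.Injective (f.comp (A.prod B).subtype) := by
      rw [injective_iff_map_eq_one]
      intro z hz
      exact Subtype.ext (hf z.1 (hp z.1 z.2) hz)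
    have h2 : (A.prod B).map f = (f.comp (A.prod B).subtype).range := by
      rw [MonoidHom.range_comp, Subgroup.range_subtype]
    rw [h2, ← Nat.card_congr (MonoidHom.ofInjective h1).toEquiv,
      Nat.card_congr (Subgroup.prodEquiv A B).toEquiv, Nat.card_prod, hA, hB]
    norm_num
  have h1 := h.small ((A.prod B).map f) ?_ ?_
  · rw [hc] at h1
    norm_num at h1
  · constructor
    constructor
    rintro ⟨_, a, ha, rfl⟩ ⟨_, b, hb, rfl⟩
    apply Subtype.ext
    change f a * f b = f b * f a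
    rw [← map_mul, ← map_mul]
    congr 1
    obtain ⟨ha1, ha2⟩ := Subgroup.mem_prod.1 ha
    obtain ⟨hb1, hb2⟩ := Subgroup.mem_prod.1 hb
    refine Prod.ext ?_ ?_
    · exact congrArg Subtype.val (hAc.is_comm.comm ⟨a.1, ha1⟩ ⟨b.1, hb1⟩)
    · exact congrArg Subtype.val (hBc.is_comm.comm ⟨a.2, ha2⟩ ⟨b.2, hb2⟩)
  · intro x
    obtain ⟨_, z, hz, rfl⟩ := x
    obtain ⟨k, hk⟩ := hp z hz
    refine ⟨k, Subtype.ext ?_⟩
    simp only [Subgroup.coe_pow, Subgroup.coe_one]
    rw [← map_pow, hk, map_one]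

end Cfsg.Agent.H496.Sev
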