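import Cfsg.Agent.H496.Sev.Val
import Cfsg.Agent.H322.Cent.Blocks
import Cfsg.Agent.LieClassical.SLTwoUnipotent
import Cfsg.Agent.OrdDiv.Main

/-!
# `Hyp` fails for the groups of Lie type in characteristic `7` (helper496)
-/

set_option autoImplicit false
set_option linter.unusedSectionVars false

namespace Cfsg.Agent.H496.Sev

open Cfsg Matrix Cfsg.Agent.H322.Cent Cfsg.Agent.OrdDiv

universe u v w

section Arith

theorem char7 {q N d X R : ℕ} (h7 : 7 ∣ q) (hqp : IsPrimePow q) (hX : d * X = q ^ N * R) (hd : ¬ 7 ∣ d)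
    (hR : ¬ 7 ∣ R) (hv : X.factorization 7 = 5) : ∃ k, q = 7 ^ k ∧ N * k = 5 := by
  obtain ⟨p, k, hp, hk, rfl⟩ := (isPrimePow_nat_iff _).1 hqp
  have h1 : 7 = p := (Nat.prime_dvd_prime_iff_eq (by norm_num) hp).1 (fact7.out.dvd_of_dvd_pow h7)
  subst h1
  refine ⟨k, rfl, ?_⟩
  have hX0 : X ≠ 0 := by rintro rfl; simp at hv
  have hd0 : d ≠ 0 := by rintro rfl; exact hd (dvd_zero 7)
  have hR0 : R ≠ 0 := by rintro rfl; exact hR (dvd_zero 7)
  have h2 := congrArg (fun n => Nat.factorization n 7) hX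
  rw [fac_mul hd0 hX0, fac_mul (by positivity) hR0, fac_seven hd, fac_seven hR, hv, ← pow_mul,
    Nat.Prime.factorization_pow (by norm_num), Finsupp.single_eq_same] at h2
  rw [mul_comm]
  omega

theorem char7_false {q N d X R : ℕ} (h7 : 7 ∣ q) (hqp : IsPrimePow q) (hX : d * X = q ^ N * R) (hd : ¬ 7 ∣ d)
    (hR : ¬ 7 ∣ R) (hN : ¬ N ∣ 5) (hv : X.factorization 7 = 5) : False := by
  obtain ⟨k, -, hk⟩ := char7 h7 hqp hX hd hR hv
  exact hN ⟨k, hk.symm⟩

variable {q : ℕ}

theorem nd_sub (h7 : 7 ∣ q) (hq : 1 ≤ q) {k : ℕ} (hk : 1 ≤ k) : ¬ 7 ∣ q ^ k - 1 := by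
  intro h
  have h1 := cop_sub hq hk
  have h2 := Nat.dvd_gcd h h7
  rw [h1] at h2
  norm_num at h2

theorem nd_add (h7 : 7 ∣ q) {k : ℕ} (hk : 1 ≤ k) : ¬ 7 ∣ q ^ k + 1 := by
  intro h
  have h1 := cop_add (q := q) hk
  have h2 := Nat.dvd_gcd h h7
  rw [h1] at h2
  norm_num at h2

theorem nd_mul {a b : ℕ} (ha : ¬ 7 ∣ a) (hb : ¬ 7 ∣ b) : ¬ 7 ∣ a * b := by
  rw [Nat.Prime.dvd_mul (by norm_num)]
  tauto

theorem nd_prod {s : Finset ℕ} {f : ℕ → ℕ} (h : ∀ i ∈ s, ¬ 7 ∣ f i) : ¬ 7 ∣ ∏ i ∈ s, f i := by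
  intro h1
  obtain ⟨i, hi, h2⟩ := (Prime.dvd_finsetProd_iff (Nat.prime_iff.1 fact7.out) f).1 h1
  exact h i hi h2

theorem nd_gcd {a b : ℕ} (hb : ¬ 7 ∣ b) : ¬ 7 ∣ Nat.gcd a b := fun h => hb (h.trans (Nat.gcd_dvd_right _ _))

end Arith

variable {F : Type w} [Field F] [Fintype F]

/-- unipotent elements of `PSL_2(F)` -/
def unip : Multiplicative F →* ProjectiveSpecialLinearGroup (Fin 2) F :=
  (QuotientGroup.mk' _).comp (MonoidHom.mk' (fun x : Multiplicative F => LieClassical.SLTwoUnipotent.u x.toAdd)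
    (fun a b => LieClassical.SLTwoUnipotent.u_add a.toAdd b.toAdd))

theorem unip_injective : Function.Injective (unip (F := F)) := by
  rw [injective_iff_map_eq_one]
  intro a ha
  have h1 : LieClassical.SLTwoUnipotent.u a.toAdd ∈ Subgroup.center (SpecialLinearGroup (Fin 2) F) :=
    (QuotientGroup.eq_one_iff _).1 ha
  obtain ⟨c, hc⟩ := scalar_of_center h1
  have h2 := congrFun (congrFun hc 0) 1
  have h3 : a.toAdd = (0 : F) := by
    rw [diagonal_apply_ne _ (by decide)] at h2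
    exact h2
  exact h3

theorem psl_false7 (h7 : 7 ∣ Fintype.card F) {n : ℕ} (hn : 2 ≤ n)
    (h : Hyp (ProjectiveSpecialLinearGroup (Fin n) F)) : False := by
  classical
  have hqp : IsPrimePow (Fintype.card F) := Fintype.isPrimePow_card_of_field
  have hq1 : 1 < Fintype.card F := Fintype.one_lt_card
  have h1 := S0243.result (F := F) rfl n hn
  have h2 : ∏ i : Fin n, (Fintype.card F ^ n - Fintype.card F ^ (i : ℕ)) =
      Fintype.card F ^ (n * (n - 1) / 2) * ∏ i ∈ Finset.range n, (Fintype.card F ^ (n - i) - 1) := by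
    rw [Fin.prod_univ_eq_prod_range (fun i => Fintype.card F ^ n - Fintype.card F ^ i) n, ← Finset.sum_range_id,
      ← Finset.prod_pow_eq_pow_sum, ← Finset.prod_mul_distrib]
    refine Finset.prod_congr rfl fun i hi => ?_
    have := Finset.mem_range.1 hi
    rw [Nat.mul_sub, mul_one, ← pow_add, show i + (n - i) = n by omega]
  rw [h2, ← mul_assoc] at h1
  have hq : ¬ 7 ∣ Fintype.card F - 1 := by
    have := nd_sub h7 (by omega) (k := 1) le_rfl
    rwa [pow_one] at this
  obtain ⟨k, hk1, hk2⟩ := char7 h7 hqp h1 (nd_mul (nd_gcd hq) hq)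
    (nd_prod fun i hi => nd_sub h7 (by omega) (by have := Finset.mem_range.1 hi; omega)) h.val
  have h3 : n * (n - 1) / 2 ≤ 5 := Nat.le_of_dvd (by norm_num) ⟨k, hk2.symm⟩
  have h4 : n ≤ 3 := by
    by_contra hc
    have h5 : 4 * 3 ≤ n * (n - 1) := Nat.mul_le_mul (by omega) (by omega)
    omega
  interval_cases n
  · norm_num at hk2
    subst hk2
    have h5 := h.small (unip (F := F)).range ?_ ?_
    · rw [← Nat.card_congr (MonoidHom.ofInjective (unip_injective (F := F))).toEquiv] at h5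
      have h6 : Nat.card (Multiplicative F) = 7 ^ 5 := by
        rw [Nat.card_congr Multiplicative.toAdd, Nat.card_eq_fintype_card, hk1]
      rw [h6] at h5
      norm_num at h5
    · constructor
      constructor
      rintro ⟨_, a, rfl⟩ ⟨_, b, rfl⟩
      apply Subtype.ext
      change unip a * unip b = unip b * unip a
      rw [← map_mul, ← map_mul, mul_comm]
    · have h6 : IsPGroup 7 (Multiplicative F) := IsPGroup.of_card (n := 5) (by
        rw [Nat.card_congr Multiplicative.toAdd, Nat.card_eq_fintype_card, hk1])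
      exact h6.of_surjective (unip (F := F)).rangeRestrict (unip (F := F)).rangeRestrict_surjective
  · norm_num at hk2
    omega

theorem psp_false7 (h7 : 7 ∣ Fintype.card F) {m : ℕ} (hm : 2 ≤ m) (h : Hyp (PSp m F)) : False := by
  have hqp : IsPrimePow (Fintype.card F) := Fintype.isPrimePow_card_of_field
  have hq1 : 1 < Fintype.card F := Fintype.one_lt_card
  have h1 := S0245.result (F := F) rfl m
  have h2 := S0246.result (F := F) rfl m (by omega)
  have h3 := Subgroup.card_eq_card_quotient_mul_card_subgroup (Subgroup.center (Matrix.symplecticGroup (Fin m) F))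
  rw [h1, h2] at h3
  have hq : ¬ 7 ∣ Fintype.card F - 1 := by
    have := nd_sub h7 (by omega) (k := 1) le_rfl
    rwa [pow_one] at this
  refine char7_false h7 hqp ((mul_comm _ _).trans h3.symm) (nd_gcd hq) ?_ ?_ h.val
  · exact nd_prod fun i _ => nd_sub h7 (by omega) (by omega)
  · intro h4
    have h5 := Nat.le_of_dvd (by norm_num) h4
    have h6 : m ≤ 2 := by nlinarith
    obtain rfl : m = 2 := by omega
    norm_num at h4

theorem psu_false7 {q : ℕ} (hF : Fintype.card F = q ^ 2) (h7 : 7 ∣ q) {n : ℕ} (hn : 3 ≤ n) (h : Hyp (PSU n F q)) :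
    False := by
  have hq2 : IsPrimePow (q ^ 2) := hF ▸ Fintype.isPrimePow_card_of_field
  have hqp : IsPrimePow q := (isPrimePow_pow_iff (by norm_num)).1 hq2
  have hq1 : 1 < q := hqp.one_lt
  have h1 := S0280.result hF n (by omega)
  have hq : ¬ 7 ∣ q + 1 := by
    have := nd_add h7 (k := 1) le_rfl
    rwa [pow_one] at this
  rw [← mul_assoc] at h1
  refine char7_false h7 hqp h1 (nd_mul (nd_gcd hq) hq) ?_ ?_ h.val
  · refine nd_prod fun i _ => ?_
    split_ifs
    · exact nd_add h7 (by omega)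
    · exact nd_sub h7 (by omega) (by omega)
  · intro h4
    have h5 := Nat.le_of_dvd (by norm_num) h4
    have h6 : n ≤ 3 := by
      by_contra hc
      have h7 : 4 * 3 ≤ n * (n - 1) := Nat.mul_le_mul (by omega) (by omega)
      omega
    obtain rfl : n = 3 := by omega
    norm_num at h4

theorem oodd_false7 (h7 : 7 ∣ Fintype.card F) (hodd : Odd (Fintype.card F)) {m : ℕ} (hm : 3 ≤ m)
    (h : Hyp (POmega F (quadFormOdd m F))) : False := by
  have hqp : IsPrimePow (Fintype.card F) := Fintype.isPrimePow_card_of_field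
  have hq1 : 1 < Fintype.card F := Fintype.one_lt_card
  refine char7_false h7 hqp (S0292.result (F := F) rfl hodd m hm) (by norm_num) ?_ ?_ h.val
  · exact nd_prod fun i _ => nd_sub h7 (by omega) (by omega)
  · intro h4
    have h5 := Nat.le_of_dvd (by norm_num) h4
    nlinarith

theorem oplus_false7 (h7 : 7 ∣ Fintype.card F) {m : ℕ} (hm : 4 ≤ m)
    (h : Hyp (POmega F (quadFormPlus m F))) : False := by
  have hqp : IsPrimePow (Fintype.card F) := Fintype.isPrimePow_card_of_field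
  have hq1 : 1 < Fintype.card F := Fintype.one_lt_card
  refine char7_false h7 hqp ((S0293.result (F := F) rfl m hm).trans (mul_assoc _ _ _)) ?_ ?_ ?_ h.val
  · exact nd_gcd (nd_sub h7 (by omega) (by omega))
  · exact nd_mul (nd_sub h7 (by omega) (by omega)) (nd_prod fun i _ => nd_sub h7 (by omega) (by omega))
  · intro h4
    have h5 := Nat.le_of_dvd (by norm_num) h4
    have h6 : 4 * 3 ≤ m * (m - 1) := Nat.mul_le_mul (by omega) (by omega)
    omega

theorem ominus_false7 (h7 : 7 ∣ Fintype.card F) {m : ℕ} (hm : 4 ≤ m) {a b : F}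
    (hab : ∀ z₁ z₂ : F, z₁ ^ 2 + a * z₁ * z₂ + b * z₂ ^ 2 = 0 → z₁ = 0 ∧ z₂ = 0)
    (h : Hyp (POmega F (quadFormMinus (m - 1) F a b))) : False := by
  have hqp : IsPrimePow (Fintype.card F) := Fintype.isPrimePow_card_of_field
  have hq1 : 1 < Fintype.card F := Fintype.one_lt_card
  refine char7_false h7 hqp ((S0294.result (F := F) rfl m hm a b hab).trans (mul_assoc _ _ _)) ?_ ?_ ?_ h.val
  · exact nd_gcd (nd_add h7 (by omega))
  · exact nd_mul (nd_add h7 (by omega)) (nd_prod fun i _ => nd_sub h7 (by omega) (by omega))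
  · intro h4
    have h5 := Nat.le_of_dvd (by norm_num) h4
    have h6 : 4 * 3 ≤ m * (m - 1) := Nat.mul_le_mul (by omega) (by omega)
    omega

/-! ### exceptional groups -/

section Exc

variable {F : Type} [Field F] [Fintype F] (T : OrderTable.{u})

include T

theorem g2_false7 (h7 : 7 ∣ Fintype.card F) (h : Hyp ↥(Lie.chevG2.group F)) : False := by
  have hqp : IsPrimePow (Fintype.card F) := Fintype.isPrimePow_card_of_field
  have hq1 : 1 < Fintype.card F := Fintype.one_lt_card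
  refine char7_false (d := 1) (N := 6) (R := (Fintype.card F ^ 2 - 1) * (Fintype.card F ^ 6 - 1)) h7 hqp
    (by rw [T.g2 F]; ring) (by norm_num) ?_ (by norm_num) h.val
  exact nd_mul (nd_sub h7 (by omega) (by norm_num)) (nd_sub h7 (by omega) (by norm_num))

theorem f4_false7 (h7 : 7 ∣ Fintype.card F) (h : Hyp ↥(Lie.chevF4.group F)) : False := by
  have hqp : IsPrimePow (Fintype.card F) := Fintype.isPrimePow_card_of_field
  have hq1 : 1 < Fintype.card F := Fintype.one_lt_card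
  have key : ∀ k, 1 ≤ k → ¬ 7 ∣ Fintype.card F ^ k - 1 := fun k hk => nd_sub h7 (by omega) hk
  refine char7_false (d := 1) (N := 24) (R := (Fintype.card F ^ 2 - 1) * (Fintype.card F ^ 6 - 1) *
    (Fintype.card F ^ 8 - 1) * (Fintype.card F ^ 12 - 1)) h7 hqp
    (by rw [T.f4 F _ rfl]; ring) (by norm_num) ?_ (by norm_num) h.val
  exact nd_mul (nd_mul (nd_mul (key 2 (by norm_num)) (key 6 (by norm_num))) (key 8 (by norm_num))) (key 12 (by norm_num))

theorem e6_false7 (h7 : 7 ∣ Fintype.card F) (h : Hyp ↥(Lie.chevE6.group F)) : False := by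
  have hqp : IsPrimePow (Fintype.card F) := Fintype.isPrimePow_card_of_field
  have hq1 : 1 < Fintype.card F := Fintype.one_lt_card
  have key : ∀ k, 1 ≤ k → ¬ 7 ∣ Fintype.card F ^ k - 1 := fun k hk => nd_sub h7 (by omega) hk
  refine char7_false (d := Nat.gcd 3 (Fintype.card F - 1)) (N := 36) (R := (Fintype.card F ^ 2 - 1) *
    (Fintype.card F ^ 5 - 1) * (Fintype.card F ^ 6 - 1) * (Fintype.card F ^ 8 - 1) * (Fintype.card F ^ 9 - 1) *
    (Fintype.card F ^ 12 - 1)) h7 hqp (by rw [T.e6 F _ rfl]; ring) (nd_gcd ?_) ?_ (by norm_num) h.val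
  · have := key 1 le_rfl
    rwa [pow_one] at this
  · exact nd_mul (nd_mul (nd_mul (nd_mul (nd_mul (key 2 (by norm_num)) (key 5 (by norm_num))) (key 6 (by norm_num)))
      (key 8 (by norm_num))) (key 9 (by norm_num))) (key 12 (by norm_num))

theorem e7_false7 (h7 : 7 ∣ Fintype.card F) (h : Hyp ↥(Lie.chevE7.group F)) : False := by
  have hqp : IsPrimePow (Fintype.card F) := Fintype.isPrimePow_card_of_field
  have hq1 : 1 < Fintype.card F := Fintype.one_lt_card
  have key : ∀ k, 1 ≤ k → ¬ 7 ∣ Fintype.card F ^ k - 1 := fun k hk => nd_sub h7 (by omega) hk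
  refine char7_false (d := Nat.gcd 2 (Fintype.card F - 1)) (N := 63) (R := (Fintype.card F ^ 2 - 1) *
    (Fintype.card F ^ 6 - 1) * (Fintype.card F ^ 8 - 1) * (Fintype.card F ^ 10 - 1) * (Fintype.card F ^ 12 - 1) *
    (Fintype.card F ^ 14 - 1) * (Fintype.card F ^ 18 - 1)) h7 hqp
    (by rw [T.e7 F _ rfl]; ring) (nd_gcd ?_) ?_ (by norm_num) h.val
  · have := key 1 le_rfl
    rwa [pow_one] at this
  · exact nd_mul (nd_mul (nd_mul (nd_mul (nd_mul (nd_mul (key 2 (by norm_num)) (key 6 (by norm_num)))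
      (key 8 (by norm_num))) (key 10 (by norm_num))) (key 12 (by norm_num))) (key 14 (by norm_num)))
      (key 18 (by norm_num))

theorem e8_false7 (h7 : 7 ∣ Fintype.card F) (h : Hyp ↥(Lie.chevE8.group F)) : False := by
  have hqp : IsPrimePow (Fintype.card F) := Fintype.isPrimePow_card_of_field
  have hq1 : 1 < Fintype.card F := Fintype.one_lt_card
  have key : ∀ k, 1 ≤ k → ¬ 7 ∣ Fintype.card F ^ k - 1 := fun k hk => nd_sub h7 (by omega) hk
  refine char7_false (d := 1) (N := 120) (R := (Fintype.card F ^ 2 - 1) *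
    (Fintype.card F ^ 8 - 1) * (Fintype.card F ^ 12 - 1) * (Fintype.card F ^ 14 - 1) * (Fintype.card F ^ 18 - 1) *
    (Fintype.card F ^ 20 - 1) * (Fintype.card F ^ 24 - 1) * (Fintype.card F ^ 30 - 1)) h7 hqp
    (by rw [T.e8 F _ rfl]; ring) (by norm_num) ?_ (by norm_num) h.val
  exact nd_mul (nd_mul (nd_mul (nd_mul (nd_mul (nd_mul (nd_mul (key 2 (by norm_num)) (key 8 (by norm_num)))
      (key 12 (by norm_num))) (key 14 (by norm_num))) (key 18 (by norm_num))) (key 20 (by norm_num)))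
      (key 24 (by norm_num))) (key 30 (by norm_num))

theorem te6_false7 {q : ℕ} (hqp : IsPrimePow q) (hF : Fintype.card F = q ^ 2) (h7 : 7 ∣ q)
    (h : Hyp ↥(Lie.twistedE6 F q)) : False := by
  have hq1 : 1 < q := hqp.one_lt
  have key : ∀ k, 1 ≤ k → ¬ 7 ∣ q ^ k - 1 := fun k hk => nd_sub h7 (by omega) hk
  have key' : ∀ k, 1 ≤ k → ¬ 7 ∣ q ^ k + 1 := fun k hk => nd_add h7 hk
  refine char7_false (d := Nat.gcd 3 (q + 1)) (N := 36) (R := (q ^ 2 - 1) * (q ^ 5 + 1) * (q ^ 6 - 1) * (q ^ 8 - 1) *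
    (q ^ 9 + 1) * (q ^ 12 - 1)) h7 hqp (by rw [T.te6 F q hqp hF]; ring) (nd_gcd ?_) ?_ (by norm_num) h.val
  · have := key' 1 le_rfl
    rwa [pow_one] at this
  · exact nd_mul (nd_mul (nd_mul (nd_mul (nd_mul (key 2 (by norm_num)) (key' 5 (by norm_num))) (key 6 (by norm_num)))
      (key 8 (by norm_num))) (key' 9 (by norm_num))) (key 12 (by norm_num))

theorem td4_false7 {q : ℕ} (hqp : IsPrimePow q) (hF : Fintype.card F = q ^ 3) (h7 : 7 ∣ q)
    (h : Hyp ↥(Lie.twistedD4 F q)) : False := by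
  have hq1 : 1 < q := hqp.one_lt
  have key : ∀ k, 1 ≤ k → ¬ 7 ∣ q ^ k - 1 := fun k hk => nd_sub h7 (by omega) hk
  refine char7_false (d := 1) (N := 12) (R := (q ^ 2 - 1) * (q ^ 6 - 1) * (q ^ 8 + q ^ 4 + 1)) h7 hqp
    (by rw [T.td4 F q hqp hF]; ring) (by norm_num) ?_ (by norm_num) h.val
  refine nd_mul (nd_mul (key 2 (by norm_num)) (key 6 (by norm_num))) ?_
  intro h8
  have h9 : 7 ∣ q ^ 8 + q ^ 4 := Dvd.dvd.add (dvd_pow h7 (by norm_num)) (dvd_pow h7 (by norm_num))
  omega

end Exc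

end Cfsg.Agent.H496.Sev
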