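import Cfsg.Agent.H496.Sev.PSp
import Cfsg.Agent.ChevalleyStructure.Elts
import Cfsg.Agent.S2378
import Cfsg.Prelude.Def_LieTwisted
import Cfsg.Prelude.Def_Sz

/-!
# `Hyp` fails for the exceptional groups of Lie type over a field of order prime to `7` (helper496)
-/

set_option autoImplicit false

namespace Cfsg.Agent.H496.Sev

open Cfsg Cfsg.Lie Matrix Cfsg.Agent.H130.Homo Cfsg.Agent.ChevalleyStructure.Elts

universe u v w

/-- the types with degrees prime to `7` -/
abbrev Lst : List (ChevalleyDatum × List ℕ) :=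
  [(chevG2, [2, 6]), (chevB2, [2, 4]), (chevD4, [2, 4, 4, 6]), (chevF4, [2, 6, 8, 12]),
    (chevE6, [2, 5, 6, 8, 9, 12]), (chevE7, [2, 6, 8, 10, 12, 14, 18]), (chevE8, [2, 8, 12, 14, 18, 20, 24, 30])]

/-- `7`-subgroups of Chevalley groups are commutative if `7` does not divide the order of the Weyl group -/
theorem comm_of_chev {F : Type w} [Field F] [Fintype F] (h7 : ¬ 7 ∣ Fintype.card F)
    (c : ChevalleyDatum × List ℕ) (hc : c ∈ Lst) (hW : ¬ 7 ∣ c.2.prod) {H : Type v} [Group H] [Finite H]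
    (i : H →* ↥(c.1.group F)) (hi : Function.Injective i) (Q : Sylow 7 H) :
    ∀ x ∈ Q, ∀ y ∈ Q, x * y = y * x := by
  classical
  by_cases hG : 7 ∣ Nat.card ↥(c.1.group F)
  · intro x hx y hy
    have hQ : IsPGroup 7 ((Q : Subgroup H).map i) := Q.isPGroup'.map i
    obtain ⟨S, hS⟩ := hQ.exists_le_sylow
    obtain ⟨e⟩ := S2378.result (F := F) rfl c hc 7 h7 hW hG S
    have hx' : i x ∈ S := hS ⟨x, hx, rfl⟩
    have hy' : i y ∈ S := hS ⟨y, hy, rfl⟩
    have h1 : (⟨i x, hx'⟩ : S) * ⟨i y, hy'⟩ = ⟨i y, hy'⟩ * ⟨i x, hx'⟩ := by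
      apply e.injective
      rw [map_mul, map_mul, mul_comm]
    have h2 := congrArg Subtype.val h1
    apply hi
    rw [map_mul, map_mul]
    exact h2
  · have key : ∀ x ∈ Q, x = 1 := by
      intro x hx
      obtain ⟨k, hk⟩ := Q.isPGroup' ⟨x, hx⟩
      apply hi
      rw [map_one]
      refine eq_one_of_coprime (k := k) (n := Nat.card ↥(c.1.group F)) ?_ pow_card_eq_one' hG
      rw [← map_pow]
      have : x ^ 7 ^ k = 1 := congrArg Subtype.val hk
      rw [this, map_one]
    intro x hx y hy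
    rw [key x hx, key y hy]

theorem genSubgroup_le_group {D : ChevalleyDatum} (hD : D ∈ [chevG2, chevB2, chevD4, chevF4, chevE6, chevE7, chevE8])
    {F : Type w} [Field F] (S : Set (List (ℕ × F))) : D.genSubgroup F S ≤ D.group F := by
  unfold ChevalleyDatum.genSubgroup
  rw [Subgroup.closure_le]
  rintro g ⟨l, -, hg⟩
  rw [(eq_wordG_iff hD g l).2 hg]
  exact wordG_mem_group hD l

theorem Hyp.false_of_chev {G : Type u} [Group G] [Finite G] (h : Hyp G) {F : Type w} [Field F] [Fintype F]
    (h7 : ¬ 7 ∣ Fintype.card F)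
    (c : ChevalleyDatum × List ℕ) (hc : c ∈ Lst) (hW : ¬ 7 ∣ c.2.prod)
    (i : G →* ↥(c.1.group F)) (hi : Function.Injective i) : False := by
  obtain ⟨Q⟩ : Nonempty (Sylow 7 G) := inferInstance
  exact h.false_of_comm Q (comm_of_chev h7 c hc hW i hi Q)

section

variable {F : Type w} [Field F] [Fintype F]

theorem g2_false (h7 : ¬ 7 ∣ Fintype.card F) (h : Hyp ↥(chevG2.group F)) : False :=
  h.false_of_chev h7 (chevG2, [2, 6]) (by simp) (by norm_num) (MonoidHom.id _) Function.injective_id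

theorem f4_false (h7 : ¬ 7 ∣ Fintype.card F) (h : Hyp ↥(chevF4.group F)) : False :=
  h.false_of_chev h7 (chevF4, [2, 6, 8, 12]) (by simp) (by norm_num) (MonoidHom.id _) Function.injective_id

theorem e6_false (h7 : ¬ 7 ∣ Fintype.card F) (h : Hyp ↥(chevE6.group F)) : False :=
  h.false_of_chev h7 (chevE6, [2, 5, 6, 8, 9, 12]) (by simp) (by norm_num) (MonoidHom.id _) Function.injective_id

theorem te6_false (h7 : ¬ 7 ∣ Fintype.card F) {q : ℕ} (h : Hyp ↥(twistedE6 F q)) : False :=
  h.false_of_chev h7 (chevE6, [2, 5, 6, 8, 9, 12]) (by simp) (by norm_num)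
    (Subgroup.inclusion (genSubgroup_le_group (by simp) _)) (Subgroup.inclusion_injective _)

theorem td4_false (h7 : ¬ 7 ∣ Fintype.card F) {q : ℕ} (h : Hyp ↥(twistedD4 F q)) : False :=
  h.false_of_chev h7 (chevD4, [2, 4, 4, 6]) (by simp) (by norm_num)
    (Subgroup.inclusion (genSubgroup_le_group (by simp) _)) (Subgroup.inclusion_injective _)

theorem ree_false (h7 : ¬ 7 ∣ Fintype.card F) {q : ℕ} (h : Hyp ↥(twistedG2 F q)) : False :=
  h.false_of_chev h7 (chevG2, [2, 6]) (by simp) (by norm_num)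
    (Subgroup.inclusion (genSubgroup_le_group (by simp) _)) (Subgroup.inclusion_injective _)

theorem tf4_false (h7 : ¬ 7 ∣ Fintype.card F) {q : ℕ} (h : Hyp ↥(twistedF4 F q)) : False :=
  h.false_of_chev h7 (chevF4, [2, 6, 8, 12]) (by simp) (by norm_num)
    (Subgroup.inclusion (genSubgroup_le_group (by simp) _)) (Subgroup.inclusion_injective _)

theorem sz_false (h7 : ¬ 7 ∣ Fintype.card F) {q : ℕ} (h : Hyp ↥(Lie.Sz F q)) : False := by
  have h1 : 0 < orderOf (Fintype.card F : ZMod 7) := orderOf_pos_zmod h7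
  exact h.false_of_GL rfl h7 (n := 4) (by omega) (H := ↥(Lie.Sz F q)) (Lie.Sz F q).subtype (Subgroup.subtype_injective _)
    (MonoidHom.id _) Function.surjective_id

end

/-! ### the groups of type `E_7` and `E_8` -/

section Arith

variable {q : ℕ}

theorem fac_e7 (h7 : ¬ 7 ∣ q) (hq : 1 < q) {X g : ℕ} (hg : ¬ 7 ∣ g) (hX : g * X = q ^ 63 * (q ^ 2 - 1) *
    (q ^ 6 - 1) * (q ^ 8 - 1) * (q ^ 10 - 1) * (q ^ 12 - 1) * (q ^ 14 - 1) * (q ^ 18 - 1))
    (hv : X.factorization 7 = 5) : False := by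
  have n0 : q ^ 63 ≠ 0 := pow_ne_zero _ (by omega)
  have n2 := sub_one_ne hq (k := 2) (by norm_num)
  have n6 := sub_one_ne hq (k := 6) (by norm_num)
  have n8 := sub_one_ne hq (k := 8) (by norm_num)
  have n10 := sub_one_ne hq (k := 10) (by norm_num)
  have n12 := sub_one_ne hq (k := 12) (by norm_num)
  have n14 := sub_one_ne hq (k := 14) (by norm_num)
  have n18 := sub_one_ne hq (k := 18) (by norm_num)
  have hX0 : X ≠ 0 := by rintro rfl; simp at hv
  have hg0 : g ≠ 0 := by rintro rfl; exact hg (dvd_zero 7)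
  have h14 : (14 : ℕ).factorization 7 = 1 := by
    rw [show (14 : ℕ) = 7 * 2 by norm_num, fac_mul (by norm_num) (by norm_num),
      Nat.Prime.factorization_self (by norm_num), fac_seven (by norm_num)]
  have h1 := congrArg (fun n => Nat.factorization n 7) hX
  rw [fac_mul hg0 hX0, fac_mul (by positivity) n18, fac_mul (by positivity) n14, fac_mul (by positivity) n12,
    fac_mul (by positivity) n10, fac_mul (by positivity) n8, fac_mul (by positivity) n6, fac_mul n0 n2,
    fac_pow h7, fac_seven hg, hv, fac_sub_one h7 hq (by norm_num), fac_sub_one h7 hq (by norm_num),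
    fac_sub_one h7 hq (by norm_num), fac_sub_one h7 hq (by norm_num), fac_sub_one h7 hq (by norm_num),
    fac_sub_one h7 hq (by norm_num), fac_sub_one h7 hq (by norm_num)] at h1
  rcases ord_cases h7 with h | h | h | h
  all_goals
    rw [h] at h1
    simp [h14, fac_seven] at h1
    try omega

theorem fac_e8 (h7 : ¬ 7 ∣ q) (hq : 1 < q) {X : ℕ} (hX : X = q ^ 120 * (q ^ 2 - 1) * (q ^ 8 - 1) * (q ^ 12 - 1) *
    (q ^ 14 - 1) * (q ^ 18 - 1) * (q ^ 20 - 1) * (q ^ 24 - 1) * (q ^ 30 - 1))
    (hv : X.factorization 7 = 5) : False := by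
  have n0 : q ^ 120 ≠ 0 := pow_ne_zero _ (by omega)
  have n2 := sub_one_ne hq (k := 2) (by norm_num)
  have n8 := sub_one_ne hq (k := 8) (by norm_num)
  have n12 := sub_one_ne hq (k := 12) (by norm_num)
  have n14 := sub_one_ne hq (k := 14) (by norm_num)
  have n18 := sub_one_ne hq (k := 18) (by norm_num)
  have n20 := sub_one_ne hq (k := 20) (by norm_num)
  have n24 := sub_one_ne hq (k := 24) (by norm_num)
  have n30 := sub_one_ne hq (k := 30) (by norm_num)
  have h14 : (14 : ℕ).factorization 7 = 1 := by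
    rw [show (14 : ℕ) = 7 * 2 by norm_num, fac_mul (by norm_num) (by norm_num),
      Nat.Prime.factorization_self (by norm_num), fac_seven (by norm_num)]
  have h1 := congrArg (fun n => Nat.factorization n 7) hX
  rw [fac_mul (by positivity) n30, fac_mul (by positivity) n24, fac_mul (by positivity) n20, fac_mul (by positivity) n18,
    fac_mul (by positivity) n14, fac_mul (by positivity) n12, fac_mul (by positivity) n8, fac_mul n0 n2,
    fac_pow h7, hv, fac_sub_one h7 hq (by norm_num), fac_sub_one h7 hq (by norm_num),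
    fac_sub_one h7 hq (by norm_num), fac_sub_one h7 hq (by norm_num), fac_sub_one h7 hq (by norm_num),
    fac_sub_one h7 hq (by norm_num), fac_sub_one h7 hq (by norm_num), fac_sub_one h7 hq (by norm_num)] at h1
  rcases ord_cases h7 with h | h | h | h
  all_goals
    rw [h] at h1
    simp [h14, fac_seven] at h1
    try omega

end Arith

end Cfsg.Agent.H496.Sev
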