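import Cfsg.Agent.H496.Sev.Main
import Cfsg.Agent.OrdDiv.Table

/-!
# No known simple group has Sylow `7`-subgroups of order `7 ^ 5`, exponent `7` and rank at most three (helper496)

`no_simple_seven` : the table-free statement.
-/

set_option autoImplicit false

namespace Cfsg.Agent.H496.Sev

open Cfsg

universe u

/-- no known simple group has Sylow `7`-subgroups of order `7 ^ 5` with abelian `7`-subgroups of order at most
`7 ^ 3` -/
theorem Hyp.false_of_isKnown {G : Type u} [Group G] [Finite G] (hK : IsKnownSimple' G) (h : Hyp G) : False :=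
  Hyp.false_of_known OrdDiv.table hK h

/-- a known simple group with Sylow `7`-subgroups of order `7 ^ 5` and exponent `7` has an elementary abelian
subgroup of order `7 ^ 4` -/
theorem no_simple_seven {G : Type u} [Group G] [Finite G] [IsSimpleGroup G] (hK : Cfsg.IsKnownSimple' G)
    (P : Sylow 7 G) (hcard : Nat.card P = 7 ^ 5) (hexp : ∀ x ∈ P, x ^ 7 = 1)
    (hrank : ∀ A : Subgroup G, Cfsg.IsElementaryAbelian 7 A → Nat.card A ≤ 7 ^ 3)
    (_hZ : Nat.card (Subgroup.center P) = 7) : False :=
  Hyp.false_of_isKnown hK (Hyp.of_sylow P hcard hexp hrank)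

end Cfsg.Agent.H496.Sev
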