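import Cfsg.Agent.H496.Sev.PSp
import Cfsg.Agent.H372.Orth
import Cfsg.Agent.LieClassical.OmegaReindex
import Cfsg.Agent.LieClassical.OrthCenter
import Cfsg.Agent.ClassicalGeometry.SiegelGen
import Cfsg.Agent.ClassicalGeometry.OrthDickson
import Cfsg.Agent.S0286
import Cfsg.Agent.S0287
import Cfsg.Agent.S0288

/-!
# `Hyp` fails for the simple orthogonal groups over a field of order `q`, `7 ∤ q` (helper496)
-/

set_option autoImplicit false
set_option linter.style.haveILetI false

namespace Cfsg.Agent.H496.Sev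

open Cfsg Matrix QuadraticMap Cfsg.Agent.H130.Homo Cfsg.Agent.LieClassical.OmegaReindex

universe u v w

section Trans

variable {F : Type w} [Field F] [Finite F] {ι : Type} [Fintype ι] [DecidableEq ι]

theorem mul_self_mem (Q : QuadraticForm F (ι → F)) (hQ : (polarBilin Q).Nondegenerate)
    (h5 : 5 ≤ Fintype.card ι) (g : isometryGroup F ⇑Q) : g * g ∈ Omega F ⇑Q := by
  by_cases h2 : (2 : F) = 0
  · haveI : Nonempty ι := by
      rw [← Fintype.card_pos_iff]
      omega
    have h := Cfsg.Agent.ClassicalGeometry.OrthDickson.index_commutator_two Q h2 hQ (Or.inr (by omega))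
    exact Subgroup.mul_self_mem_of_index_two h g
  · exact Cfsg.Agent.ClassicalGeometry.SiegelGen.mul_self_mem_commutator h2 Q hQ g

theorem Hyp.iso_of_POmega (Q : QuadraticForm F (ι → F)) (hQ : (polarBilin Q).Nondegenerate)
    (h5 : 5 ≤ Fintype.card ι) (hs : ∃ u : ι → F, u ≠ 0 ∧ Q u = 0) (h : Hyp (POmega F ⇑Q)) :
    Hyp (isometryGroup F ⇑Q) := by
  have h1 : Hyp (Omega F ⇑Q) := by
    refine Hyp.of_quot (Subgroup.center _) ?_ h
    intro h7
    obtain ⟨z, hz⟩ := exists_prime_orderOf_dvd_card' 7 h7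
    have h2 := (LieClassical.OrthCenter.mem_center_omega_iff hQ (by omega) hs z.1).1 z.2
    have h3 : z ^ 2 = 1 := by
      apply Subtype.ext
      apply Subtype.ext
      apply Subtype.ext
      apply Units.ext
      have h4 : (((((z ^ 2 : Subgroup.center (Omega F ⇑Q)) : Omega F ⇑Q) : isometryGroup F ⇑Q) :
          Matrix.GeneralLinearGroup ι F) : Matrix ι ι F) =
          (((((z : Subgroup.center (Omega F ⇑Q)) : Omega F ⇑Q) : isometryGroup F ⇑Q) :
          Matrix.GeneralLinearGroup ι F) : Matrix ι ι F) ^ 2 := rfl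
      rw [h4]
      rcases h2 with h2 | h2
      · rw [h2, one_pow]; rfl
      · rw [h2, neg_one_sq]; rfl
    have h4 := orderOf_dvd_of_pow_eq_one h3
    rw [hz] at h4
    norm_num at h4
  refine Hyp.of_subgroup (Omega F ⇑Q) ?_ h1
  intro g k hg
  have h2 : g ^ (7 ^ k + 1) = g := by rw [pow_succ, hg, one_mul]
  obtain ⟨j, hj⟩ : ∃ j, 7 ^ k + 1 = j + j := by
    have : Odd (7 ^ k) := Odd.pow (by decide)
    exact this.add_one
  rw [← h2, hj, pow_add]
  exact mul_self_mem Q hQ h5 _

/-- the natural representation with rows and columns indexed by `Fin n` -/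
theorem iso_false_of_lt {F : Type w} [Field F] [Fintype F] {q n : ℕ} (hq : Fintype.card F = q) (h7 : ¬ 7 ∣ q)
    (Q : (ι → F) → F) (hι : Fintype.card ι = n) (hn : n < 7 * orderOf (q : ZMod 7))
    (h : Hyp (isometryGroup F Q)) : False := by
  refine h.false_of_GL hq h7 hn
    ((glReindex F (Fintype.equivFinOfCardEq hι)).toMonoidHom.comp (isometryGroup F Q).subtype) ?_
    (MonoidHom.id _) Function.surjective_id
  exact (glReindex F (Fintype.equivFinOfCardEq hι)).injective.comp Subtype.val_injective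

end Trans

section Sum

variable {F : Type w} [Field F]

/-- the bijection of indices -/
def idx (k l : ℕ) : (Fin k ⊕ Fin k) ⊕ (Fin l ⊕ Fin l) ≃ Fin (k + l) ⊕ Fin (k + l) :=
  (Equiv.sumSumSumComm (Fin k) (Fin k) (Fin l) (Fin l)).trans (Equiv.sumCongr finSumFinEquiv finSumFinEquiv)

theorem quadFormPlus_add (k l : ℕ) (v : Fin (k + l) ⊕ Fin (k + l) → F) :
    quadFormPlus (k + l) F v = H372.sumQ (quadFormPlus k F) (quadFormPlus l F) (v ∘ idx k l) := by
  unfold quadFormPlus H372.sumQ
  rw [Fin.sum_univ_add]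
  rfl

/-- the group of isometries of a sum of two hyperbolic spaces -/
def plusSum (k l : ℕ) (F : Type w) [Field F] :
    isometryGroup F (quadFormPlus k F) × isometryGroup F (quadFormPlus l F) →*
      isometryGroup F (quadFormPlus (k + l) F) :=
  (isometryGroupReindex (idx k l) (H372.sumQ (quadFormPlus k F) (quadFormPlus l F)) (quadFormPlus (k + l) F)
    (quadFormPlus_add k l)).toMonoidHom.comp (H372.isoSum _ _)

theorem plusSum_injective (k l : ℕ) : Function.Injective (plusSum k l F) :=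
  (isometryGroupReindex (idx k l) (H372.sumQ (quadFormPlus k F) (quadFormPlus l F)) (quadFormPlus (k + l) F)
    (quadFormPlus_add k l)).injective.comp (H372.isoSum_injective _ _)

theorem exists_plus_plus {k m : ℕ} (h : 2 * k ≤ m) :
    ∃ f : isometryGroup F (quadFormPlus k F) × isometryGroup F (quadFormPlus k F) →*
      isometryGroup F (quadFormPlus m F), Function.Injective f := by
  obtain ⟨l, rfl⟩ : ∃ l, m = k + (k + l) := ⟨m - 2 * k, by omega⟩
  refine ⟨(plusSum k (k + l) F).comp (MonoidHom.prodMap (MonoidHom.id _)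
    ((plusSum k l F).comp (MonoidHom.inl _ _))), ?_⟩
  have hi : Function.Injective ((plusSum k l F).comp (MonoidHom.inl _ _)) :=
    (plusSum_injective k l).comp (fun a b hab => congrArg Prod.fst hab)
  exact (plusSum_injective k (k + l)).comp (Function.injective_id.prodMap hi)

end Sum

variable {F : Type w} [Field F] [Fintype F] {q : ℕ}

theorem fortynine_dvd_iso (hq : Fintype.card F = q) (h7 : ¬ 7 ∣ q) :
    49 ∣ Nat.card (isometryGroup F (quadFormPlus (blkC q) F)) := by
  have hb : blkC q = 2 ∨ blkC q = 6 := by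
    rcases blkC_cases h7 with ⟨-, h⟩ | ⟨-, h⟩ | ⟨-, h⟩ | ⟨-, h⟩ <;> simp [h]
  have h1 := seven_dvd_blk h7
  have h2 : 7 ∣ ∏ i ∈ Finset.range (blkC q - 1), (q ^ (2 * (i + 1)) - 1) := by
    refine dvd_trans ?_ (Finset.dvd_prod_of_mem _ (Finset.mem_range.2 (show blkC q / 2 - 1 < blkC q - 1 by omega)))
    rwa [show 2 * (blkC q / 2 - 1 + 1) = blkC q by omega]
  rw [S0287.result hq (blkC q) (by omega)]
  exact mul_dvd_mul (h1.mul_left _) h2

theorem iso_false_of_blocks (hq : Fintype.card F = q) (h7 : ¬ 7 ∣ q) {Y : Type v} [Group Y] [Finite Y] {m : ℕ}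
    (hm : 2 * blkC q ≤ m) (f : isometryGroup F (quadFormPlus m F) →* Y) (hf : Function.Injective f)
    (h : Hyp Y) : False := by
  obtain ⟨f1, hf1⟩ := exists_plus_plus (F := F) hm
  refine h.false_of_prod (fortynine_dvd_iso hq h7) (fortynine_dvd_iso hq h7) (f.comp f1) ?_
  intro z _ hz
  have h1 : (f.comp f1) z = (f.comp f1) 1 := hz.trans (map_one _).symm
  exact (hf.comp hf1) h1

theorem prodB_ne (hq1 : 1 < q) (m : ℕ) : ∏ i ∈ Finset.range m, (q ^ (2 * (i + 1)) - 1) ≠ 0 :=
  Finset.prod_ne_zero_iff.2 (fun i _ => sub_one_ne hq1 (by omega))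

theorem fac_prodB_one (h7 : ¬ 7 ∣ q) (hq : 1 < q) (h3 : orderOf (q : ZMod 7) = 1) :
    (∏ i ∈ Finset.range 3, (q ^ (2 * (i + 1)) - 1)).factorization 7 = 3 * val 7 q := by
  rw [fac_prodB h7 hq, h3]
  simp [Finset.sum_range_succ, fac_seven]
  ring

theorem oodd_false (hq : Fintype.card F = q) (h7 : ¬ 7 ∣ q) (hodd : Odd q) {m : ℕ} (hm : 3 ≤ m)
    (h : Hyp (POmega F (quadFormOdd m F))) : False := by
  have hq1 : 1 < q := hq ▸ Fintype.one_lt_card
  have h2 : (2 : F) ≠ 0 := by
    intro h2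
    have h3 := (CharP.cast_eq_zero_iff F (ringChar F) 2).1 (by exact_mod_cast h2)
    have h4 : ringChar F = 2 :=
      (Nat.prime_dvd_prime_iff_eq (CharP.char_is_prime F (ringChar F)) Nat.prime_two).1 h3
    have h5 := FiniteField.even_card_of_char_two h4
    rw [hq] at h5
    exact absurd hodd (by rw [Nat.odd_iff]; omega)
  have hcard : Fintype.card (Unit ⊕ (Fin m ⊕ Fin m)) = 2 * m + 1 := by
    simp only [Fintype.card_sum, Fintype.card_fin, Fintype.card_unit]
    omega
  rw [← coe_quadOdd] at h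
  have h' := Hyp.iso_of_POmega _ (quadOdd_nondegenerate h2) (by omega) (quadOdd_isotropic (by omega)) h
  rw [coe_quadOdd] at h'
  by_cases hn : 2 * m + 1 < 7 * orderOf (q : ZMod 7)
  · exact iso_false_of_lt hq h7 _ hcard hn h'
  · have hc := blkC_cases h7
    by_cases hm2 : 2 * blkC q ≤ m
    · exact iso_false_of_blocks hq h7 hm2 (H372.isoInr (fun v : Unit → F => v () ^ 2) (quadFormPlus m F))
        (H372.isoInr_injective _ _) h'
    · have h3 : (orderOf (q : ZMod 7) = 1 ∧ m = 3) ∨ (orderOf (q : ZMod 7) = 3 ∧ 9 ≤ m ∧ m ≤ 11) := by omega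
      refine h'.not_three (val 7 q) ?_
      rw [S0286.result hq hodd, fac_mul (Nat.mul_ne_zero (by omega) (pow_ne_zero _ (by omega))) (prodB_ne hq1 _),
        fac_mul (by omega) (pow_ne_zero _ (by omega)), fac_pow h7, fac_seven (n := 2) (by norm_num)]
      rcases h3 with ⟨h3, rfl⟩ | ⟨h3, h4, h5⟩
      · rw [fac_prodB_one h7 hq1 h3, zero_add, zero_add]
      · rw [fac_prodB_three h7 hq1 h3 h4 h5, zero_add, zero_add]

theorem oplus_false (hq : Fintype.card F = q) (h7 : ¬ 7 ∣ q) {m : ℕ} (hm : 4 ≤ m)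
    (h : Hyp (POmega F (quadFormPlus m F))) : False := by
  have hq1 : 1 < q := hq ▸ Fintype.one_lt_card
  have hcard : Fintype.card (Fin m ⊕ Fin m) = 2 * m := by
    simp only [Fintype.card_sum, Fintype.card_fin]
    omega
  rw [← coe_quadPlus] at h
  have h' := Hyp.iso_of_POmega _ quadPlus_nondegenerate (by omega) (quadPlus_isotropic (by omega)) h
  rw [coe_quadPlus] at h'
  by_cases hn : 2 * m < 7 * orderOf (q : ZMod 7)
  · exact iso_false_of_lt hq h7 _ hcard hn h'
  · have hc := blkC_cases h7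
    by_cases hm2 : 2 * blkC q ≤ m
    · exact iso_false_of_blocks hq h7 hm2 (MonoidHom.id _) Function.injective_id h'
    · have h3 : orderOf (q : ZMod 7) = 3 ∧ m = 11 := by omega
      obtain ⟨h3, rfl⟩ := h3
      refine h'.not_three (val 7 q) ?_
      rw [S0287.result hq 11 (by norm_num), fac_mul (Nat.mul_ne_zero (Nat.mul_ne_zero (by omega)
        (pow_ne_zero _ (by omega))) (sub_one_ne hq1 (by omega))) (prodB_ne hq1 _),
        fac_mul (Nat.mul_ne_zero (by omega) (pow_ne_zero _ (by omega))) (sub_one_ne hq1 (by omega)),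
        fac_mul (by omega) (pow_ne_zero _ (by omega)), fac_pow h7, fac_seven (n := 2) (by norm_num),
        fac_sub_one h7 hq1 (by omega), h3, if_neg (by norm_num), fac_prodB_three h7 hq1 h3 (by norm_num) (by norm_num)]
      ring

theorem ominus_false (hq : Fintype.card F = q) (h7 : ¬ 7 ∣ q) {m : ℕ} (hm : 4 ≤ m) {a b : F}
    (hab : ∀ z₁ z₂ : F, z₁ ^ 2 + a * z₁ * z₂ + b * z₂ ^ 2 = 0 → z₁ = 0 ∧ z₂ = 0)
    (h : Hyp (POmega F (quadFormMinus (m - 1) F a b))) : False := by
  have hq1 : 1 < q := hq ▸ Fintype.one_lt_card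
  have hcard : Fintype.card ((Fin (m - 1) ⊕ Fin (m - 1)) ⊕ Fin 2) = 2 * m := by
    simp only [Fintype.card_sum, Fintype.card_fin]
    omega
  rw [← coe_quadMinus] at h
  have h' := Hyp.iso_of_POmega _ (quadMinus_nondegenerate hab) (by omega) (quadMinus_isotropic (by omega) a b) h
  rw [coe_quadMinus] at h'
  by_cases hn : 2 * m < 7 * orderOf (q : ZMod 7)
  · exact iso_false_of_lt hq h7 _ hcard hn h'
  · have hc := blkC_cases h7
    by_cases hm2 : 2 * blkC q ≤ m - 1
    · exact iso_false_of_blocks hq h7 hm2 (H372.isoInl (quadFormPlus (m - 1) F)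
        (fun z : Fin 2 → F => z 0 ^ 2 + a * z 0 * z 1 + b * z 1 ^ 2)) (H372.isoInl_injective _ _) h'
    · have h3 : (orderOf (q : ZMod 7) = 1 ∧ m = 4) ∨ (orderOf (q : ZMod 7) = 3 ∧ m = 11) ∨
          (orderOf (q : ZMod 7) = 3 ∧ m = 12) := by omega
      refine h'.not_three (val 7 q) ?_
      rw [S0288.result hq m (by omega) a b hab, fac_mul (Nat.mul_ne_zero (Nat.mul_ne_zero (by omega)
        (pow_ne_zero _ (by omega))) (by omega)) (prodB_ne hq1 _),
        fac_mul (Nat.mul_ne_zero (by omega) (pow_ne_zero _ (by omega))) (by omega),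
        fac_mul (by omega) (pow_ne_zero _ (by omega)), fac_pow h7, fac_seven (n := 2) (by norm_num),
        fac_add_one h7 hq1 (by omega)]
      rcases h3 with ⟨h3, rfl⟩ | ⟨h3, rfl⟩ | ⟨h3, rfl⟩
      · rw [h3, if_neg (by norm_num), fac_prodB_one h7 hq1 h3]
        ring
      · rw [h3, if_neg (by norm_num), fac_prodB_three h7 hq1 h3 (by norm_num) (by norm_num)]
        ring
      · rw [h3, if_neg (by norm_num), fac_prodB_three h7 hq1 h3 (by norm_num) (by norm_num)]
        ring

end Cfsg.Agent.H496.Sev
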