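import Cfsg.Agent.H496.Sev.Base
import Cfsg.Agent.H322.Cent.Blocks
import Cfsg.Agent.H130.SLn

/-!
# `Hyp` fails for `PSL_n(q)`, `7 ∤ q` (helper496)
-/

set_option autoImplicit false

namespace Cfsg.Agent.H496.Sev

open Cfsg Matrix Cfsg.Agent.H322.Cent Cfsg.Agent.H130.Homo Cfsg.Agent.H130.GLn

universe u v w

section Val

variable {q : ℕ}

theorem orderOf_pos7 (h7 : ¬ 7 ∣ q) : 0 < orderOf (q : ZMod 7) := orderOf_pos_zmod h7

theorem orderOf_dvd_six (h7 : ¬ 7 ∣ q) : orderOf (q : ZMod 7) ∣ 6 := orderOf_dvd_sub_one h7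

theorem orderOf_cases (h7 : ¬ 7 ∣ q) : orderOf (q : ZMod 7) = 1 ∨ orderOf (q : ZMod 7) = 2 ∨
    orderOf (q : ZMod 7) = 3 ∨ orderOf (q : ZMod 7) = 6 := by
  have h1 := orderOf_dvd_six h7
  have h2 := Nat.le_of_dvd (by norm_num) h1
  have h3 := orderOf_pos7 h7
  interval_cases orderOf (q : ZMod 7) <;> simp_all

theorem val_pos (h7 : ¬ 7 ∣ q) (hq : 1 < q) : 1 ≤ val 7 q := by
  rw [← val_pow_orderOf h7 hq]
  apply one_le_padicValNat_of_dvd
  · have : 1 < q ^ orderOf (q : ZMod 7) := Nat.one_lt_pow (orderOf_pos7 h7).ne' hq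
    omega
  · exact (dvd_pow_sub_one_iff h7 _).2 dvd_rfl

end Val

variable {F : Type w} [Field F] [Fintype F] {q : ℕ}

theorem fortynine_dvd_GL (hq : Fintype.card F = q) (h7 : ¬ 7 ∣ q) {k : ℕ}
    (hk : k < 7 * orderOf (q : ZMod 7)) (hk2 : 2 * orderOf (q : ZMod 7) ≤ k) :
    49 ∣ Nat.card (GeneralLinearGroup (Fin k) F) := by
  have hq1 := one_lt_q hq
  have h1 := val_GL (r := 7) hq h7 k (fun j hj hd h7j => by
    have h1 := (coprime_orderOf h7).mul_dvd_of_dvd_of_dvd h7j hd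
    have h2 := Finset.mem_Ioc.1 hj
    have h3 := Nat.le_of_dvd h2.1 h1
    omega)
  have h2 : 2 ≤ (Nat.card (GeneralLinearGroup (Fin k) F)).factorization 7 := by
    rw [h1]
    have h3 : 2 ≤ k / orderOf (q : ZMod 7) := (Nat.le_div_iff_mul_le (orderOf_pos7 h7)).2 hk2
    have h4 := val_pos h7 hq1
    nlinarith
  rw [show (49 : ℕ) = 7 ^ 2 by norm_num]
  exact (Nat.Prime.pow_dvd_iff_le_factorization (by norm_num) Nat.card_pos.ne').2 h2

/-- the size of the blocks -/
noncomputable def blkSize (q : ℕ) : ℕ := if orderOf (q : ZMod 7) = 1 then 3 else 2 * orderOf (q : ZMod 7)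

theorem blkSize_cases (h7 : ¬ 7 ∣ q) :
    (orderOf (q : ZMod 7) = 1 ∧ blkSize q = 3) ∨ (orderOf (q : ZMod 7) = 2 ∧ blkSize q = 4) ∨
      (orderOf (q : ZMod 7) = 3 ∧ blkSize q = 6) ∨ (orderOf (q : ZMod 7) = 6 ∧ blkSize q = 12) := by
  unfold blkSize
  rcases orderOf_cases h7 with h | h | h | h <;> simp [h]

theorem fortynine_dvd_SL (hq : Fintype.card F = q) (h7 : ¬ 7 ∣ q) :
    49 ∣ Nat.card (SpecialLinearGroup (Fin (blkSize q)) F) := by
  have hq1 := one_lt_q hq
  by_cases h1 : orderOf (q : ZMod 7) = 1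
  · have hk : blkSize q = 2 + 1 := by unfold blkSize; rw [if_pos h1]
    rw [hk]
    have h2 := Subgroup.card_dvd_of_injective (H130.SLn.torus F 2) (H130.SLn.torus_injective F 2)
    refine dvd_trans ?_ h2
    rw [Nat.card_fun, Nat.card_fin, Nat.card_units, Nat.card_eq_fintype_card, hq]
    have h3 : 7 ∣ q - 1 := by
      have := (dvd_pow_sub_one_iff h7 1).2 (by rw [h1])
      rwa [pow_one] at this
    exact pow_dvd_pow_of_dvd h3 2
  · have hk : blkSize q = 2 * orderOf (q : ZMod 7) := by unfold blkSize; rw [if_neg h1]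
    rw [hk]
    have h0 := orderOf_pos7 h7
    have h2 := H130.SLn.card_SL_mul hq (F := F) (2 * orderOf (q : ZMod 7)) (by omega)
    have h3 := fortynine_dvd_GL hq h7 (F := F) (k := 2 * orderOf (q : ZMod 7)) (by omega) le_rfl
    rw [← h2] at h3
    refine Nat.Coprime.dvd_of_dvd_mul_right ?_ h3
    rw [show (49 : ℕ) = 7 ^ 2 by norm_num]
    apply Nat.Coprime.pow_left
    rw [Nat.Prime.coprime_iff_not_dvd (by norm_num)]
    intro h4
    have h5 := (dvd_pow_sub_one_iff h7 1).1 (by rwa [pow_one])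
    exact h1 (Nat.dvd_one.1 h5)

theorem eq_one_of_pow {M : Type*} [Monoid M] {c : M} {a k : ℕ} (h1 : c ^ a = 1) (h2 : c ^ 7 ^ k = 1)
    (ha : ¬ 7 ∣ a) : c = 1 := by
  have h3 : orderOf c ∣ Nat.gcd a (7 ^ k) := Nat.dvd_gcd (orderOf_dvd_of_pow_eq_one h1) (orderOf_dvd_of_pow_eq_one h2)
  have h4 : Nat.gcd a (7 ^ k) = 1 :=
    Nat.Coprime.pow_right k ((Nat.Prime.coprime_iff_not_dvd (by norm_num)).2 ha).symm
  rw [h4, Nat.dvd_one] at h3
  exact orderOf_eq_one_iff.1 h3

/-- a scalar block with a `7`-power order is trivial -/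
theorem eq_one_of_scalar_block {K : Type*} [Field K] {k j : ℕ} (hk0 : 0 < k) (hk : ¬ 7 ∣ k)
    {A : SpecialLinearGroup (Fin k) K} {c : K}
    (hA : A.1 = diagonal (fun _ => c)) (hp : A ^ 7 ^ j = 1) : c = 1 := by
  have h1 : c ^ k = 1 := by
    have h := A.2
    rw [hA, det_diagonal, Finset.prod_const, Finset.card_univ, Fintype.card_fin] at h
    exact h
  have h2 : c ^ 7 ^ j = 1 := by
    have h := congrArg Subtype.val hp
    rw [Matrix.SpecialLinearGroup.coe_pow, hA, diagonal_pow] at h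
    have h3 := congrFun (congrFun h ⟨0, hk0⟩) ⟨0, hk0⟩
    rw [diagonal_apply_eq] at h3
    simpa using h3
  exact eq_one_of_pow h1 h2 hk

/-- the blocks of a scalar block matrix -/
theorem blocks_of_diagonal {K : Type*} [Field K] {k l : ℕ} {A : Matrix (Fin k) (Fin k) K} {B : Matrix (Fin l) (Fin l) K}
    {c : K} (h : bdm A B = diagonal (fun _ => c)) :
    A = diagonal (fun _ => c) ∧ B = diagonal (fun _ => c) := by
  unfold bdm at h
  have h1 : fromBlocks A 0 0 B = (diagonal (fun _ : Fin (k + l) => c)).submatrix finSumFinEquiv finSumFinEquiv := by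
    rw [← h, submatrix_submatrix, Equiv.symm_comp_self, submatrix_id_id]
  rw [submatrix_diagonal_equiv] at h1
  constructor
  · ext i j
    have h2 := congrFun (congrFun h1 (Sum.inl i)) (Sum.inl j)
    rw [fromBlocks_apply₁₁] at h2
    rw [h2]
    by_cases hij : i = j
    · subst hij; rw [diagonal_apply_eq, diagonal_apply_eq]; rfl
    · rw [diagonal_apply_ne _ hij, diagonal_apply_ne _ (fun e => hij (Sum.inl_injective e))]
  · ext i j
    have h2 := congrFun (congrFun h1 (Sum.inr i)) (Sum.inr j)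
    rw [fromBlocks_apply₂₂] at h2
    rw [h2]
    by_cases hij : i = j
    · subst hij; rw [diagonal_apply_eq, diagonal_apply_eq]; rfl
    · rw [diagonal_apply_ne _ hij, diagonal_apply_ne _ (fun e => hij (Sum.inr_injective e))]

theorem psl_false (hq : Fintype.card F = q) (h7 : ¬ 7 ∣ q) {n : ℕ}
    (h : Hyp (ProjectiveSpecialLinearGroup (Fin n) F)) : False := by
  classical
  by_cases hn : n < 7 * orderOf (q : ZMod 7)
  · exact h.false_of_GL hq h7 hn (SpecialLinearGroup.toGL : SpecialLinearGroup (Fin n) F →* _)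
      SpecialLinearGroup.toGL_injective (QuotientGroup.mk' _) (QuotientGroup.mk'_surjective _)
  · have hb := blkSize_cases h7
    obtain ⟨l, rfl⟩ : ∃ l, n = blkSize q + (blkSize q + l) := ⟨n - 2 * blkSize q, by omega⟩
    have hk0 : 0 < blkSize q := by omega
    have hk7 : ¬ 7 ∣ blkSize q := by omega
    generalize hb' : blkSize q = k at *
    refine h.false_of_prod (X := SpecialLinearGroup (Fin k) F) (Y := SpecialLinearGroup (Fin k) F)
      (hb' ▸ fortynine_dvd_SL hq h7) (hb' ▸ fortynine_dvd_SL hq h7)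
      ((QuotientGroup.mk' _).comp (bd.comp (MonoidHom.prodMap (MonoidHom.id _) (bd.comp (MonoidHom.inl _ _))))) ?_
    rintro ⟨A, B⟩ ⟨j, hj⟩ hz
    have h1 : bd (A, bd (B, (1 : SpecialLinearGroup (Fin l) F))) ∈ Subgroup.center _ :=
      (QuotientGroup.eq_one_iff _).1 hz
    obtain ⟨c, hc⟩ := scalar_of_center h1
    have hc' : bdm A.1 (bdm B.1 (1 : SpecialLinearGroup (Fin l) F).1) = diagonal (fun _ => c) := hc
    obtain ⟨h2, h3⟩ := blocks_of_diagonal hc'
    obtain ⟨h4, -⟩ := blocks_of_diagonal h3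
    have hjA : A ^ 7 ^ j = 1 := congrArg Prod.fst hj
    have hc1 := eq_one_of_scalar_block hk0 hk7 h2 hjA
    subst hc1
    refine Prod.ext (Subtype.ext ?_) (Subtype.ext ?_)
    · exact h2.trans (by rw [diagonal_one]; rfl)
    · exact h4.trans (by rw [diagonal_one]; rfl)

end Cfsg.Agent.H496.Sev
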