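import Cfsg.Agent.H496.Sev.Val
import Cfsg.Agent.H496.Sev.PSL
import Cfsg.Agent.S0278
import Cfsg.Agent.S0280

/-!
# `Hyp` fails for `PSU_n(q)`, `7 ∤ q` (helper496)
-/

set_option autoImplicit false

namespace Cfsg.Agent.H496.Sev

open Cfsg Matrix Cfsg.Agent.H130.Homo Cfsg.Agent.H322.Cent

universe u v w

section Arith

variable {q : ℕ}



theorem prodU_ne (hq : 1 < q) (n : ℕ) :
    ∏ i ∈ Finset.range n, (if Even i then q ^ (i + 1) + 1 else q ^ (i + 1) - 1) ≠ 0 := by
  rw [Finset.prod_ne_zero_iff]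
  intro i _
  split_ifs
  · omega
  · exact sub_one_ne hq (by omega)

theorem fac_prodU (h7 : ¬ 7 ∣ q) (hq : 1 < q) (n : ℕ) :
    (∏ i ∈ Finset.range n, (if Even i then q ^ (i + 1) + 1 else q ^ (i + 1) - 1)).factorization 7 =
      ∑ i ∈ Finset.range n, (if Even i then
        (if orderOf (q : ZMod 7) ∣ 2 * (i + 1) ∧ ¬ orderOf (q : ZMod 7) ∣ i + 1 then val 7 q + (i + 1).factorization 7 else 0)
        else (if orderOf (q : ZMod 7) ∣ i + 1 then val 7 q + (i + 1).factorization 7 else 0)) := by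
  rw [Nat.factorization_prod, Finset.sum_apply']
  · refine Finset.sum_congr rfl fun i _ => ?_
    by_cases h : Even i
    · rw [if_pos h, if_pos h, fac_add_one h7 hq (by omega)]
    · rw [if_neg h, if_neg h, fac_sub_one h7 hq (by omega)]
  · intro i _
    split_ifs
    · omega
    · exact sub_one_ne hq (by omega)

/-- size of blocks -/
noncomputable def blkU (q : ℕ) : ℕ :=
  if orderOf (q : ZMod 7) = 1 then 4 else if orderOf (q : ZMod 7) = 2 then 3 else
    if orderOf (q : ZMod 7) = 3 then 12 else 6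

theorem blkU_cases (h7 : ¬ 7 ∣ q) :
    (orderOf (q : ZMod 7) = 1 ∧ blkU q = 4) ∨ (orderOf (q : ZMod 7) = 2 ∧ blkU q = 3) ∨
      (orderOf (q : ZMod 7) = 3 ∧ blkU q = 12) ∨ (orderOf (q : ZMod 7) = 6 ∧ blkU q = 6) := by
  unfold blkU
  rcases ord_cases h7 with h | h | h | h <;> simp [h]

end Arith

variable {F : Type w} [Field F] [Fintype F] {q : ℕ}

theorem orderOf_sq (n : ℕ) : ((n ^ 2 : ℕ) : ZMod 7) = (n : ZMod 7) ^ 2 := by push_cast; rfl

theorem fac_SU (hF : Fintype.card F = q ^ 2) (h7 : ¬ 7 ∣ q) (hq1 : 1 < q) :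
    (Nat.card (SU (blkU q) F q)).factorization 7 = 2 * val 7 q := by
  have h0 : 1 ≤ blkU q := by have := blkU_cases h7; omega
  have h := S0278.result hF (blkU q) h0
  have h1 := congrArg (fun n => Nat.factorization n 7) h
  rw [fac_mul (by omega) Nat.card_pos.ne', fac_mul (pow_ne_zero _ (by omega)) (prodU_ne hq1 _), fac_pow h7,
    fac_prodU h7 hq1, zero_add] at h1
  have h2 := fac_add_one h7 hq1 (k := 1) (by omega)
  rw [pow_one] at h2
  rw [h2] at h1
  rcases blkU_cases h7 with ⟨h3, h4⟩ | ⟨h3, h4⟩ | ⟨h3, h4⟩ | ⟨h3, h4⟩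
  · rw [h3] at h1
    rw [h4] at h1 ⊢
    simp [Finset.sum_range_succ, fac_seven, Nat.even_iff] at h1
    omega
  · rw [h3] at h1
    rw [h4] at h1 ⊢
    simp [Finset.sum_range_succ, fac_seven, Nat.even_iff] at h1
    omega
  · rw [h3] at h1
    rw [h4] at h1 ⊢
    simp [Finset.sum_range_succ, fac_seven, Nat.even_iff] at h1
    omega
  · rw [h3] at h1
    rw [h4] at h1 ⊢
    simp [Finset.sum_range_succ, fac_seven, Nat.even_iff] at h1
    omega

theorem fortynine_dvd_of_fac {n a : ℕ} (hn : n ≠ 0) (h : n.factorization 7 = 2 * a) (ha : 1 ≤ a) : 49 ∣ n := by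
  rw [show (49 : ℕ) = 7 ^ 2 by norm_num]
  exact (Nat.Prime.pow_dvd_iff_le_factorization (by norm_num) hn).2 (by omega)

theorem psu_false (hF : Fintype.card F = q ^ 2) (h7 : ¬ 7 ∣ q) {n : ℕ} (hn3 : 3 ≤ n)
    (h : Hyp (PSU n F q)) : False := by
  classical
  have hF1 : 1 < Fintype.card F := Fintype.one_lt_card
  have hq1 : 1 < q := by
    rw [hF] at hF1
    by_contra hc
    have : q ^ 2 ≤ 1 ^ 2 := Nat.pow_le_pow_left (by omega) 2
    omega
  have h7' : ¬ 7 ∣ q ^ 2 := fun h => h7 (fact7.out.dvd_of_dvd_pow h)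
  have ho : orderOf ((q ^ 2 : ℕ) : ZMod 7) = orderOf (q : ZMod 7) / Nat.gcd (orderOf (q : ZMod 7)) 2 := by
    rw [orderOf_sq, orderOf_pow' _ (by norm_num)]
  have hb := blkU_cases h7
  have ho' : (orderOf (q : ZMod 7) ≤ 2 ∧ orderOf ((q ^ 2 : ℕ) : ZMod 7) = 1) ∨
      (3 ≤ orderOf (q : ZMod 7) ∧ orderOf ((q ^ 2 : ℕ) : ZMod 7) = 3) := by
    rw [ho]
    rcases hb with ⟨h3, h4⟩ | ⟨h3, h4⟩ | ⟨h3, h4⟩ | ⟨h3, h4⟩ <;> rw [h3] <;> norm_num
  by_cases hn : n < 7 * orderOf ((q ^ 2 : ℕ) : ZMod 7)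
  · exact h.false_of_GL hF h7' hn ((SpecialLinearGroup.toGL : SpecialLinearGroup (Fin n) F →* _).comp (SU n F q).subtype)
      (SpecialLinearGroup.toGL_injective.comp Subtype.val_injective) (QuotientGroup.mk' _)
      (QuotientGroup.mk'_surjective _)
  · by_cases hn2 : 2 * blkU q ≤ n
    · obtain ⟨l, rfl⟩ : ∃ l, n = blkU q + (blkU q + l) := ⟨n - 2 * blkU q, by omega⟩
      have hk0 : 0 < blkU q := by omega
      have hk7 : ¬ 7 ∣ blkU q := by omega
      have hX : 49 ∣ Nat.card (SU (blkU q) F q) :=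
        fortynine_dvd_of_fac Nat.card_pos.ne' (fac_SU hF h7 hq1) (val_pos h7 hq1)
      generalize hb' : blkU q = k at *
      refine h.false_of_prod (X := SU k F q) (Y := SU k F q) hX hX
        ((QuotientGroup.mk' _).comp (bdU.comp (MonoidHom.prodMap (MonoidHom.id _) (bdU.comp (MonoidHom.inl _ _))))) ?_
      rintro ⟨A, B⟩ ⟨j, hj⟩ hz
      have h1 : bdU (A, bdU (B, (1 : SU l F q))) ∈ Subgroup.center _ :=
        (QuotientGroup.eq_one_iff _).1 hz
      obtain ⟨c, hc⟩ := scalar_of_centerU hF hn3 h1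
      have hc' : bdm A.1.1 (bdm B.1.1 (1 : SU l F q).1.1) = diagonal (fun _ => c) := hc
      obtain ⟨h2, h3⟩ := blocks_of_diagonal hc'
      obtain ⟨h4, -⟩ := blocks_of_diagonal h3
      have hjA : A.1 ^ 7 ^ j = 1 := congrArg (fun x => (Prod.fst x).1) hj
      have hc1 := eq_one_of_scalar_block hk0 hk7 h2 hjA
      subst hc1
      refine Prod.ext (Subtype.ext (Subtype.ext ?_)) (Subtype.ext (Subtype.ext ?_))
      · exact h2.trans (by rw [diagonal_one]; rfl)
      · exact h4.trans (by rw [diagonal_one]; rfl)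
    · have h8 := S0280.result hF n (by omega)
      have h9 := congrArg (fun n => Nat.factorization n 7) h8
      have h10 : Nat.gcd n (q + 1) ≠ 0 := by
        intro h
        have := Nat.eq_zero_of_gcd_eq_zero_left h
        omega
      have hq7 : ¬ 7 ∣ q + 1 := by
        intro h11
        have h12 : 7 ∣ q ^ 2 - 1 := by
          have : q ^ 2 - 1 = (q + 1) * (q - 1) := by rw [← Nat.sq_sub_sq, one_pow]
          rw [this]
          exact h11.mul_right _
        have h13 := (dvd_pow_sub_one_iff h7 _).1 h12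
        have h14 : ¬ 7 ∣ q - 1 := by omega
        have h15 : ¬ orderOf (q : ZMod 7) ∣ 1 := by
          rw [← dvd_pow_sub_one_iff h7, pow_one]
          exact h14
        have h16 := Nat.le_of_dvd (by norm_num) h13
        have h17 : orderOf (q : ZMod 7) ≠ 1 := fun h => h15 (by rw [h])
        omega
      rw [fac_mul h10 (Nat.mul_ne_zero (by omega) Nat.card_pos.ne'), fac_mul (by omega) Nat.card_pos.ne',
        fac_mul (pow_ne_zero _ (by omega)) (prodU_ne hq1 _), fac_pow h7, fac_prodU h7 hq1, zero_add, h.val,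
        fac_seven (fun h => hq7 (h.trans (Nat.gcd_dvd_right _ _))), fac_seven hq7, zero_add, zero_add] at h9
      have h18 : (orderOf (q : ZMod 7) = 1 ∧ n = 7) ∨ (orderOf (q : ZMod 7) = 3 ∧ (n = 21 ∨ n = 22 ∨ n = 23)) := by
        omega
      rcases h18 with ⟨h18, rfl⟩ | ⟨h18, rfl | rfl | rfl⟩
      · rw [h18] at h9
        simp [Finset.sum_range_succ, fac_seven, Nat.even_iff] at h9
        omega
      · rw [h18] at h9
        simp [Finset.sum_range_succ, fac_seven, Nat.even_iff] at h9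
        omega
      · rw [h18] at h9
        simp [Finset.sum_range_succ, fac_seven, Nat.even_iff] at h9
        omega
      · rw [h18] at h9
        simp [Finset.sum_range_succ, fac_seven, Nat.even_iff] at h9
        omega

end Cfsg.Agent.H496.Sev
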