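import Cfsg.Agent.H496.Sev.Val
import Cfsg.Agent.H376.SpEmb
import Cfsg.Agent.H130.Spn
import Cfsg.Agent.S0245
import Cfsg.Agent.S0246

/-!
# `Hyp` fails for `PSp_2m(q)`, `7 ∤ q` (helper496)
-/

set_option autoImplicit false

namespace Cfsg.Agent.H496.Sev

open Cfsg Matrix Cfsg.Agent.H130.Homo

universe u v w

section Arith

variable {q : ℕ}

theorem fac_prodB (h7 : ¬ 7 ∣ q) (hq : 1 < q) (m : ℕ) :
    (∏ i ∈ Finset.range m, (q ^ (2 * (i + 1)) - 1)).factorization 7 =
      ∑ i ∈ Finset.range m, if orderOf (q : ZMod 7) ∣ 2 * (i + 1) then val 7 q + (i + 1).factorization 7 else 0 := by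
  rw [Nat.factorization_prod (fun i _ => sub_one_ne hq (by omega)), Finset.sum_apply']
  refine Finset.sum_congr rfl fun i _ => ?_
  rw [fac_sub_one h7 hq (by omega), fac_mul (by norm_num) (by omega), fac_seven (n := 2) (by norm_num), zero_add]

theorem fac_prodB_three (h7 : ¬ 7 ∣ q) (hq : 1 < q) (h3 : orderOf (q : ZMod 7) = 3) {m : ℕ} (hm : 9 ≤ m)
    (hm' : m ≤ 11) : (∏ i ∈ Finset.range m, (q ^ (2 * (i + 1)) - 1)).factorization 7 = 3 * val 7 q := by
  rw [fac_prodB h7 hq, h3]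
  interval_cases m <;> simp [Finset.sum_range_succ, fac_seven] <;> ring

/-- size of blocks -/
noncomputable def blkC (q : ℕ) : ℕ := if orderOf (q : ZMod 7) ≤ 2 then 2 else 6

theorem blkC_cases (h7 : ¬ 7 ∣ q) :
    (orderOf (q : ZMod 7) = 1 ∧ blkC q = 2) ∨ (orderOf (q : ZMod 7) = 2 ∧ blkC q = 2) ∨
      (orderOf (q : ZMod 7) = 3 ∧ blkC q = 6) ∨ (orderOf (q : ZMod 7) = 6 ∧ blkC q = 6) := by
  unfold blkC
  rcases ord_cases h7 with h | h | h | h <;> simp [h]

/-- `7` divides `q ^ k - 1` and `q ^ 2k - 1`, with `k` the size of the blocks -/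
theorem seven_dvd_blk (h7 : ¬ 7 ∣ q) : 7 ∣ q ^ blkC q - 1 := by
  rw [dvd_pow_sub_one_iff h7]
  rcases blkC_cases h7 with ⟨h, h'⟩ | ⟨h, h'⟩ | ⟨h, h'⟩ | ⟨h, h'⟩ <;> rw [h, h'] <;> norm_num

theorem seven_dvd_blk2 (h7 : ¬ 7 ∣ q) : 7 ∣ q ^ (2 * blkC q) - 1 := by
  rw [dvd_pow_sub_one_iff h7]
  exact ((dvd_pow_sub_one_iff h7 _).1 (seven_dvd_blk h7)).mul_left 2

theorem fortynine_dvd_prodB (h7 : ¬ 7 ∣ q) : 49 ∣ ∏ i ∈ Finset.range (blkC q), (q ^ (2 * (i + 1)) - 1) := by
  have h1 := seven_dvd_blk h7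
  have h2 := seven_dvd_blk2 h7
  have hb : blkC q = 2 ∨ blkC q = 6 := by
    rcases blkC_cases h7 with ⟨-, h⟩ | ⟨-, h⟩ | ⟨-, h⟩ | ⟨-, h⟩ <;> simp [h]
  rcases hb with hb | hb
  · rw [hb] at h1 h2 ⊢
    rw [Finset.prod_range_succ, Finset.prod_range_succ, Finset.prod_range_zero, one_mul]
    exact mul_dvd_mul h1 h2
  · rw [hb] at h1 h2 ⊢
    have h3 : ({2, 5} : Finset ℕ) ⊆ Finset.range 6 := by decide
    have h4 := Finset.prod_dvd_prod_of_subset _ _ (fun i => q ^ (2 * (i + 1)) - 1) h3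
    refine dvd_trans ?_ h4
    rw [Finset.prod_pair (by norm_num)]
    exact mul_dvd_mul h1 h2

end Arith

variable {F : Type w} [Field F] [Fintype F] {q : ℕ}

theorem psp_false (hq : Fintype.card F = q) (h7 : ¬ 7 ∣ q) {m : ℕ} (hm : 2 ≤ m)
    (h : Hyp (PSp m F)) : False := by
  classical
  have hq1 : 1 < q := hq ▸ Fintype.one_lt_card
  by_cases hn : m + m < 7 * orderOf (q : ZMod 7)
  · exact h.false_of_GL hq h7 hn (H130.Spn.toGL m F) (H130.Spn.toGL_injective m F) (QuotientGroup.mk' _)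
      (QuotientGroup.mk'_surjective _)
  · have h' : Hyp (symplecticGroup (Fin m) F) := by
      refine Hyp.of_quot (Subgroup.center _) ?_ h
      rw [S0246.result hq m (by omega)]
      intro h1
      have h2 := Nat.le_of_dvd (by norm_num) (h1.trans (Nat.gcd_dvd_left 2 (q - 1)))
      omega
    have hc := blkC_cases h7
    by_cases hm2 : 2 * blkC q ≤ m
    · obtain ⟨l, rfl⟩ : ∃ l, m = blkC q + (blkC q + l) := ⟨m - 2 * blkC q, by omega⟩
      have hd := fortynine_dvd_prodB h7
      generalize hb : blkC q = k at *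
      have hX : 49 ∣ Nat.card (symplecticGroup (Fin k) F) := by
        rw [S0245.result hq]
        exact hd.mul_left _
      refine h'.false_of_prod hX hX ((H376.SpEmb.reidx (finSumFinEquiv (m := k) (n := k + l))).comp
        ((H376.SpEmb.blk (Fin k) (Fin (k + l))).comp (MonoidHom.prodMap (MonoidHom.id _)
          ((H376.SpEmb.reidx (finSumFinEquiv (m := k) (n := l))).comp
            ((H376.SpEmb.blk (Fin k) (Fin l)).comp (MonoidHom.inl _ _)))))) ?_
      intro z _ hz
      have hi : Function.Injective ((H376.SpEmb.reidx (F := F) (finSumFinEquiv (m := k) (n := k + l))).comp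
        ((H376.SpEmb.blk (Fin k) (Fin (k + l))).comp (MonoidHom.prodMap (MonoidHom.id _)
          ((H376.SpEmb.reidx (finSumFinEquiv (m := k) (n := l))).comp
            ((H376.SpEmb.blk (Fin k) (Fin l)).comp (MonoidHom.inl _ _)))))) := by
        rw [MonoidHom.coe_comp, MonoidHom.coe_comp]
        refine (H376.SpEmb.reidx_injective _).comp ((H376.SpEmb.blk_injective _ _).comp ?_)
        have hi2 : Function.Injective ((H376.SpEmb.reidx (F := F) (finSumFinEquiv (m := k) (n := l))).comp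
            ((H376.SpEmb.blk (Fin k) (Fin l)).comp (MonoidHom.inl _ _))) := by
          rw [MonoidHom.coe_comp, MonoidHom.coe_comp]
          exact (H376.SpEmb.reidx_injective _).comp ((H376.SpEmb.blk_injective _ _).comp (fun a b hab =>
            congrArg Prod.fst hab))
        exact Function.injective_id.prodMap hi2
      exact hi (hz.trans (map_one _).symm)
    · have h3 : orderOf (q : ZMod 7) = 3 := by omega
      refine h'.not_three (val 7 q) ?_
      rw [S0245.result hq, fac_mul (pow_ne_zero _ (by omega))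
        (Finset.prod_ne_zero_iff.2 (fun i _ => sub_one_ne hq1 (by omega))), fac_pow h7,
        fac_prodB_three h7 hq1 h3 (by omega) (by omega), zero_add]

end Cfsg.Agent.H496.Sev
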