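import Cfsg.Agent.H496.Sev.PSL
import Cfsg.Agent.H496.Sev.PSp
import Cfsg.Agent.H496.Sev.PSU
import Cfsg.Agent.H496.Sev.POm
import Cfsg.Agent.H496.Sev.Exc
import Cfsg.Agent.H496.Sev.Char7

/-!
# No known simple group has Sylow `7`-subgroups of order `7 ^ 5`, exponent `7` and rank at most three (helper496)

* `Hyp.false_of_known` : no known simple group satisfies `Hyp` (Sylow `7`-subgroups of order `7 ^ 5`, abelian
  `7`-subgroups of order at most `7 ^ 3`); `T` is the table of orders (`OrdDiv.Table`).
-/

set_option autoImplicit false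
set_option linter.style.haveILetI false

namespace Cfsg.Agent.H496.Sev

open Cfsg Matrix Cfsg.Agent.OrdDiv

universe u v w

section Alt

open Equiv Equiv.Perm

variable {α β : Type} [Fintype α] [DecidableEq α] [Fintype β] [DecidableEq β]

/-- even permutations of a disjoint union -/
def altSum (α β : Type) [Fintype α] [DecidableEq α] [Fintype β] [DecidableEq β] :
    alternatingGroup α × alternatingGroup β →* alternatingGroup (α ⊕ β) :=
  ((sumCongrHom α β).comp ((alternatingGroup α).subtype.prodMap (alternatingGroup β).subtype)).codRestrict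
    (alternatingGroup (α ⊕ β)) (fun x => by
      rw [mem_alternatingGroup]
      change sign (Equiv.Perm.sumCongr x.1.1 x.2.1) = 1
      rw [sign_sumCongr, mem_alternatingGroup.1 x.1.2, mem_alternatingGroup.1 x.2.2, one_mul])

theorem altSum_injective : Function.Injective (altSum α β) := by
  rintro ⟨a, b⟩ ⟨c, d⟩ h
  have h1 : sumCongrHom α β (a.1, b.1) = sumCongrHom α β (c.1, d.1) := congrArg Subtype.val h
  have h2 := sumCongrHom_injective h1
  exact Prod.ext (Subtype.ext (congrArg Prod.fst h2)) (Subtype.ext (congrArg Prod.snd h2))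

theorem exists_alt_alt {n : ℕ} (hn : 28 ≤ n) :
    ∃ f : alternatingGroup (Fin 14) × alternatingGroup (Fin 14) →* alternatingGroup (Fin n), Function.Injective f := by
  obtain ⟨l, rfl⟩ : ∃ l, n = 14 + (14 + l) := ⟨n - 28, by omega⟩
  let e1 : Fin 14 ⊕ Fin l ≃ Fin (14 + l) := finSumFinEquiv
  let e2 : Fin 14 ⊕ Fin (14 + l) ≃ Fin (14 + (14 + l)) := finSumFinEquiv
  refine ⟨(altCongrHom e2).toMonoidHom.comp ((altSum (Fin 14) (Fin (14 + l))).comp
    (MonoidHom.prodMap (MonoidHom.id _) ((altCongrHom e1).toMonoidHom.comp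
      ((altSum (Fin 14) (Fin l)).comp (MonoidHom.inl _ _))))), ?_⟩
  have hi : Function.Injective ((altCongrHom e1).toMonoidHom.comp
      ((altSum (Fin 14) (Fin l)).comp (MonoidHom.inl _ _))) :=
    (altCongrHom e1).injective.comp (altSum_injective.comp (fun a b hab => congrArg Prod.fst hab))
  exact (altCongrHom e2).injective.comp (altSum_injective.comp (Function.injective_id.prodMap hi))

theorem fortynine_dvd_alt : 49 ∣ Nat.card (alternatingGroup (Fin 14)) := by
  have h1 := two_mul_nat_card_alternatingGroup (α := Fin 14)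
  rw [Nat.card_perm, Nat.card_fin] at h1
  have h2 : (14 : ℕ).factorial = 2 * (49 * 889574400) := by decide +kernel
  rw [h2] at h1
  exact ⟨_, Nat.eq_of_mul_eq_mul_left (by norm_num) h1⟩

theorem alt_false {n : ℕ} (hn : 5 ≤ n) (h : Hyp (alternatingGroup (Fin n))) : False := by
  by_cases h28 : 28 ≤ n
  · obtain ⟨f, hf⟩ := exists_alt_alt h28
    refine h.false_of_prod fortynine_dvd_alt fortynine_dvd_alt f ?_
    intro z _ hz
    exact hf (hz.trans (map_one f).symm)
  · haveI : Nontrivial (Fin n) := Fin.nontrivial_iff_two_le.2 (by omega)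
    have h1 := two_mul_nat_card_alternatingGroup (α := Fin n)
    rw [Nat.card_perm, Nat.card_fin] at h1
    have h2 : 7 ^ 5 ∣ Nat.card (alternatingGroup (Fin n)) :=
      (Nat.Prime.pow_dvd_iff_le_factorization (by norm_num) Nat.card_pos.ne').2 (by rw [h.val])
    have h3 : 7 ^ 5 ∣ n.factorial := by
      rw [← h1]
      exact h2.mul_left 2
    have h4 : 7 ^ 5 ∣ (27 : ℕ).factorial := h3.trans (Nat.factorial_dvd_factorial (by omega))
    exact absurd h4 (by decide +kernel)

end Alt

theorem spor_ne : ∀ x ∈ spor, 7 ^ 5 ∣ x.2 → 7 ^ 6 ∣ x.2 := by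
  have h : spor.all (fun x => Nat.beq (x.2 % 7 ^ 5) 0 == false || Nat.beq (x.2 % 7 ^ 6) 0) = true := by decide +kernel
  intro x hx h5
  have h1 := List.all_eq_true.1 h x hx
  have h2 : Nat.beq (x.2 % 7 ^ 5) 0 = true := by
    rw [Nat.beq_eq, Nat.mod_eq_zero_of_dvd h5]
  rw [h2] at h1
  have h3 : Nat.beq (x.2 % 7 ^ 6) 0 = true := by simpa using h1
  rw [Nat.beq_eq] at h3
  exact Nat.dvd_of_mod_eq_zero h3

theorem Hyp.false_of_known (T : OrderTable.{u}) {S : Type u} [Group S] [Finite S] (h : IsKnownSimple' S)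
    (hS : Hyp S) : False := by
  have key : ∀ (g : Grp), g ∈ spor.map (fun x => x.1) → Real g S → False := fun g hg hr => by
    obtain ⟨x, hx, rfl⟩ := List.mem_map.1 hg
    have h1 := T.spor S x hx hr
    have h2 : 7 ^ 5 ∣ x.2 := by
      rw [← h1]
      exact (Nat.Prime.pow_dvd_iff_le_factorization (by norm_num) Nat.card_pos.ne').2 (by rw [hS.val])
    have h3 := spor_ne x hx h2
    rw [← h1] at h3
    have h4 := (Nat.Prime.pow_dvd_iff_le_factorization (by norm_num) Nat.card_pos.ne').1 h3
    rw [hS.val] at h4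
    omega
  rcases h with h | h | h | h | h | h | h | h | h | h
  · haveI : Fact (Nat.card S).Prime := ⟨h⟩
    haveI : IsCyclic S := isCyclic_of_prime_card (p := Nat.card S) rfl
    obtain ⟨P⟩ : Nonempty (Sylow 7 S) := inferInstance
    exact hS.false_of_comm P (fun x _ y _ => (IsCyclic.isMulCommutative (α := S)).is_comm.comm x y)
  · obtain ⟨n, hn, ⟨e⟩⟩ := h
    exact alt_false hn (hS.congr e)
  · obtain ⟨F, _, _, n, hn, hn2, ⟨e⟩⟩ := h
    have h' := hS.congr e
    by_cases h7 : 7 ∣ Fintype.card F
    · exact psl_false7 h7 hn h'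
    · exact psl_false rfl h7 h'
  · obtain ⟨F, _, _, n, hn, hn2, ⟨e⟩⟩ := h
    have h' := hS.congr e
    by_cases h7 : 7 ∣ Fintype.card F
    · exact psp_false7 h7 hn h'
    · exact psp_false rfl h7 hn h'
  · obtain ⟨F, _, _, n, q, hF, hn, hn2, ⟨e⟩⟩ := h
    have h' := hS.congr e
    by_cases h7 : 7 ∣ q
    · exact psu_false7 hF h7 hn h'
    · exact psu_false hF h7 hn h'
  · obtain ⟨F, _, _, n, hn, ho, ⟨e⟩⟩ := h
    have h' := hS.congr e
    by_cases h7 : 7 ∣ Fintype.card F
    · exact oodd_false7 h7 ho hn h'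
    · exact oodd_false rfl h7 ho hn h'
  · obtain ⟨F, _, _, n, hn, ⟨e⟩⟩ := h
    have h' := hS.congr e
    by_cases h7 : 7 ∣ Fintype.card F
    · exact oplus_false7 h7 hn h'
    · exact oplus_false rfl h7 hn h'
  · obtain ⟨F, _, _, n, a, b, hn, hab, ⟨e⟩⟩ := h
    have h' := hS.congr e
    by_cases h7 : 7 ∣ Fintype.card F
    · exact ominus_false7 h7 hn hab h'
    · exact ominus_false rfl h7 hn hab h'
  · rcases h with h | h | h | h | h | h | h | h | h | h | h
    · obtain ⟨F, _, _, hq, ⟨e⟩⟩ := h
      have h' := hS.congr e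
      by_cases h7 : 7 ∣ Fintype.card F
      · exact g2_false7 T h7 h'
      · exact g2_false h7 h'
    · obtain ⟨F, _, _, ⟨e⟩⟩ := h
      have h' := hS.congr e
      by_cases h7 : 7 ∣ Fintype.card F
      · exact f4_false7 T h7 h'
      · exact f4_false h7 h'
    · obtain ⟨F, _, _, ⟨e⟩⟩ := h
      have h' := hS.congr e
      by_cases h7 : 7 ∣ Fintype.card F
      · exact e6_false7 T h7 h'
      · exact e6_false h7 h'
    · obtain ⟨F, _, _, ⟨e⟩⟩ := h
      have h' := hS.congr e
      by_cases h7 : 7 ∣ Fintype.card F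
      · exact e7_false7 T h7 h'
      · refine fac_e7 h7 Fintype.one_lt_card ?_ (T.e7 F _ rfl) h'.val
        intro h1
        have h2 := Nat.le_of_dvd (by norm_num) (h1.trans (Nat.gcd_dvd_left 2 (Fintype.card F - 1)))
        omega
    · obtain ⟨F, _, _, ⟨e⟩⟩ := h
      have h' := hS.congr e
      by_cases h7 : 7 ∣ Fintype.card F
      · exact e8_false7 T h7 h'
      · exact fac_e8 h7 Fintype.one_lt_card (T.e8 F _ rfl) h'.val
    · obtain ⟨F, _, _, q, hq, hF, ⟨e⟩⟩ := h
      have h' := hS.congr e
      by_cases h7 : 7 ∣ q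
      · exact te6_false7 T hq hF h7 h'
      · exact te6_false (fun h8 => h7 (by rw [hF] at h8; exact fact7.out.dvd_of_dvd_pow h8)) h'
    · obtain ⟨F, _, _, q, hq, hF, ⟨e⟩⟩ := h
      have h' := hS.congr e
      by_cases h7 : 7 ∣ q
      · exact td4_false7 T hq hF h7 h'
      · exact td4_false (fun h8 => h7 (by rw [hF] at h8; exact fact7.out.dvd_of_dvd_pow h8)) h'
    · obtain ⟨F, _, _, m, hm, hF, ⟨e⟩⟩ := h
      have h7 : ¬ 7 ∣ Fintype.card F := fun h8 => by
        rw [hF] at h8
        have := fact7.out.dvd_of_dvd_pow h8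
        norm_num at this
      exact sz_false h7 (hS.congr e)
    · obtain ⟨F, _, _, m, hm, hF, ⟨e⟩⟩ := h
      have h7 : ¬ 7 ∣ Fintype.card F := fun h8 => by
        rw [hF] at h8
        have := fact7.out.dvd_of_dvd_pow h8
        norm_num at this
      exact ree_false h7 (hS.congr e)
    · obtain ⟨F, _, _, m, hm, hF, ⟨e⟩⟩ := h
      have h7 : ¬ 7 ∣ Fintype.card F := fun h8 => by
        rw [hF] at h8
        have := fact7.out.dvd_of_dvd_pow h8
        norm_num at this
      exact tf4_false h7 (hS.congr e)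
    · exact key .tits (by decide) h
  · rcases h with h | h | h | h | h | h | h | h | h | h | h | h | h | h | h | h | h | h | h | h | h | h | h | h | h | h
    · exact key .m11 (by decide) h
    · exact key .m12 (by decide) h
    · exact key .m22 (by decide) h
    · exact key .m23 (by decide) h
    · exact key .m24 (by decide) h
    · exact key .j1 (by decide) h
    · exact key .j2 (by decide) h
    · exact key .j3 (by decide) h
    · exact key .j4 (by decide) h
    · exact key .co1 (by decide) h
    · exact key .co2 (by decide) h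
    · exact key .co3 (by decide) h
    · exact key .mcl (by decide) h
    · exact key .hs (by decide) h
    · exact key .suz (by decide) h
    · exact key .he (by decide) h
    · exact key .ru (by decide) h
    · exact key .on (by decide) h
    · exact key .ly (by decide) h
    · exact key .fi22 (by decide) h
    · exact key .fi23 (by decide) h
    · exact key .fi24 (by decide) h
    · exact key .hn (by decide) h
    · exact key .th (by decide) h
    · exact key .b (by decide) h
    · exact key .m (by decide) h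

end Cfsg.Agent.H496.Sev
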