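import Cfsg.Agent.H496.Sev.Base

/-!
# Valuations at `7` and transfer of `Hyp` (helper496)
-/

set_option autoImplicit false

namespace Cfsg.Agent.H496.Sev

open Cfsg Cfsg.Agent.H130.Homo

universe u v w

section Arith

variable {q : ℕ}

theorem ord_cases (h7 : ¬ 7 ∣ q) : orderOf (q : ZMod 7) = 1 ∨ orderOf (q : ZMod 7) = 2 ∨
    orderOf (q : ZMod 7) = 3 ∨ orderOf (q : ZMod 7) = 6 := by
  have h1 : orderOf (q : ZMod 7) ∣ 6 := orderOf_dvd_sub_one h7
  have h2 := Nat.le_of_dvd (by norm_num) h1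
  have h3 : 0 < orderOf (q : ZMod 7) := orderOf_pos_zmod h7
  interval_cases orderOf (q : ZMod 7) <;> simp_all

theorem fac_sub_one (h7 : ¬ 7 ∣ q) (hq : 1 < q) {k : ℕ} (hk : k ≠ 0) :
    (q ^ k - 1).factorization 7 = if orderOf (q : ZMod 7) ∣ k then val 7 q + k.factorization 7 else 0 := by
  rw [Nat.factorization_def _ fact7.out]
  split_ifs with h
  · rw [← val_pow_orderOf h7 hq, Nat.factorization_def _ fact7.out]
    have hco := coprime_orderOf h7
    have hd := (dvd_pow_sub_one_iff h7 _).2 dvd_rfl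
    have h0 : 0 < orderOf (q : ZMod 7) := orderOf_pos_zmod h7
    generalize orderOf (q : ZMod 7) = d at *
    obtain ⟨j, rfl⟩ := h
    have hj : j ≠ 0 := by rintro rfl; simp at hk
    have h1 := padicValNat.pow_sub_pow (p := 7) (x := q ^ d) (y := 1) (by norm_num)
      (Nat.one_lt_pow h0.ne' hq) hd (fun h => h7 (fact7.out.dvd_of_dvd_pow h)) hj
    rw [one_pow, ← pow_mul] at h1
    rw [h1, padicValNat.mul h0.ne' hj, padicValNat.eq_zero_of_not_dvd (n := d), zero_add]
    rwa [← Nat.Prime.coprime_iff_not_dvd fact7.out]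
  · exact padicValNat.eq_zero_of_not_dvd (fun h1 => h ((dvd_pow_sub_one_iff h7 k).1 h1))

theorem sub_one_ne (hq : 1 < q) {k : ℕ} (hk : k ≠ 0) : q ^ k - 1 ≠ 0 := by
  have := Nat.one_lt_pow hk hq
  omega

theorem fac_add_one (h7 : ¬ 7 ∣ q) (hq : 1 < q) {k : ℕ} (hk : k ≠ 0) :
    (q ^ k + 1).factorization 7 =
      if orderOf (q : ZMod 7) ∣ 2 * k ∧ ¬ orderOf (q : ZMod 7) ∣ k then val 7 q + k.factorization 7 else 0 := by
  have h1 : (q ^ (2 * k) - 1) = (q ^ k + 1) * (q ^ k - 1) := by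
    rw [mul_comm 2 k, pow_mul, ← Nat.sq_sub_sq, one_pow]
  have h2 := congrArg (fun n => Nat.factorization n 7) h1
  rw [Nat.factorization_mul (show q ^ k + 1 ≠ 0 by omega) (sub_one_ne hq hk), Finsupp.add_apply,
    fac_sub_one h7 hq hk, fac_sub_one h7 hq (by omega), Nat.factorization_mul (by norm_num) hk,
    Finsupp.add_apply, show (2 : ℕ).factorization 7 = 0 from Nat.factorization_eq_zero_of_not_dvd (by norm_num),
    zero_add] at h2
  by_cases h3 : orderOf (q : ZMod 7) ∣ k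
  · rw [if_pos h3, if_pos (h3.mul_left 2)] at h2
    rw [if_neg (by tauto)]
    omega
  · rw [if_neg h3, add_zero] at h2
    rw [← h2]
    by_cases h4 : orderOf (q : ZMod 7) ∣ 2 * k
    · rw [if_pos h4, if_pos ⟨h4, h3⟩]
    · rw [if_neg h4, if_neg (by tauto)]

theorem fac_pow (h7 : ¬ 7 ∣ q) (k : ℕ) : (q ^ k).factorization 7 = 0 :=
  Nat.factorization_eq_zero_of_not_dvd (fun h => h7 (fact7.out.dvd_of_dvd_pow h))

theorem fac_mul {a b : ℕ} (ha : a ≠ 0) (hb : b ≠ 0) :
    (a * b).factorization 7 = a.factorization 7 + b.factorization 7 := by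
  rw [Nat.factorization_mul ha hb, Finsupp.add_apply]

theorem fac_seven {n : ℕ} (h : ¬ 7 ∣ n) : n.factorization 7 = 0 := Nat.factorization_eq_zero_of_not_dvd h

theorem fac_dvd {a b : ℕ} (hab : a ∣ b) (hb : ¬ 7 ∣ b) : a.factorization 7 = 0 :=
  Nat.factorization_eq_zero_of_not_dvd (fun h => hb (h.trans hab))

end Arith

/-! ### transfer -/

/-- `7`-elements -/
theorem pow_card_sylow {A : Type*} [Group A] (hA : IsPGroup 7 A) (a : A) : ∃ k : ℕ, a ^ 7 ^ k = 1 := hA a

theorem eq_one_of_coprime {G : Type v} [Group G] {g : G} {k n : ℕ} (h1 : g ^ 7 ^ k = 1) (h2 : g ^ n = 1)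
    (hn : ¬ 7 ∣ n) : g = 1 := by
  have h3 : orderOf g ∣ Nat.gcd n (7 ^ k) := Nat.dvd_gcd (orderOf_dvd_of_pow_eq_one h2) (orderOf_dvd_of_pow_eq_one h1)
  have h4 : Nat.gcd n (7 ^ k) = 1 :=
    Nat.Coprime.pow_right k ((Nat.Prime.coprime_iff_not_dvd (by norm_num)).2 hn).symm
  rw [h4, Nat.dvd_one] at h3
  exact orderOf_eq_one_iff.1 h3

/-- `Hyp` for a quotient by a normal `7'`-subgroup implies `Hyp` for the group -/
theorem Hyp.of_surj {G : Type u} [Group G] [Finite G] {H : Type v} [Group H] [Finite H] (φ : H →* G)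
    (hφ : Function.Surjective φ) (hk : ¬ 7 ∣ Nat.card φ.ker) (h : Hyp G) : Hyp H := by
  have hc : Nat.card H = Nat.card G * Nat.card φ.ker := by
    rw [← Nat.card_congr (QuotientGroup.quotientKerEquivOfSurjective φ hφ).toEquiv]
    exact Subgroup.card_eq_card_quotient_mul_card_subgroup _
  constructor
  · rw [hc, fac_mul Nat.card_pos.ne' Nat.card_pos.ne', h.val, Nat.factorization_eq_zero_of_not_dvd hk]
  · intro A hA hp
    have h1 : Function.Injective (φ.comp A.subtype) := by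
      rw [injective_iff_map_eq_one]
      intro a ha
      obtain ⟨k, hk'⟩ := hp a
      apply Subtype.ext
      have h2 : (⟨a.1, ha⟩ : φ.ker) ^ Nat.card φ.ker = 1 := pow_card_eq_one'
      have h3 := congrArg Subtype.val h2
      exact eq_one_of_coprime (congrArg Subtype.val hk') h3 hk
    have h2 : A.map φ = (φ.comp A.subtype).range := by
      rw [MonoidHom.range_comp, Subgroup.range_subtype]
    have h3 : Nat.card (A.map φ) = Nat.card A := by
      rw [h2]
      exact (Nat.card_congr (MonoidHom.ofInjective h1).toEquiv).symm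
    rw [← h3]
    refine h.small _ ?_ (hp.map φ)
    constructor
    constructor
    rintro ⟨_, a, ha, rfl⟩ ⟨_, b, hb, rfl⟩
    apply Subtype.ext
    change φ a * φ b = φ b * φ a
    rw [← map_mul, ← map_mul]
    exact congrArg φ (congrArg Subtype.val (hA.is_comm.comm ⟨a, ha⟩ ⟨b, hb⟩))

/-- `Hyp` for a subgroup which contains all `7`-elements -/
theorem Hyp.of_subgroup {G : Type u} [Group G] [Finite G] (N : Subgroup G)
    (hN : ∀ g : G, ∀ k : ℕ, g ^ 7 ^ k = 1 → g ∈ N) (h : Hyp N) : Hyp G := by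
  have key : ∀ A : Subgroup G, IsPGroup 7 A → A ≤ N := by
    intro A hA a ha
    obtain ⟨k, hk⟩ := hA ⟨a, ha⟩
    exact hN a k (congrArg Subtype.val hk)
  constructor
  · obtain ⟨P⟩ : Nonempty (Sylow 7 G) := inferInstance
    have h1 : Nat.card P ∣ Nat.card N := Subgroup.card_dvd_of_le (key P P.isPGroup')
    rw [P.card_eq_multiplicity] at h1
    have h2 := (Nat.Prime.pow_dvd_iff_le_factorization fact7.out Nat.card_pos.ne').1 h1
    have h3 := (Nat.factorization_le_iff_dvd Nat.card_pos.ne' Nat.card_pos.ne').2 (Subgroup.card_subgroup_dvd_card N) 7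
    rw [h.val] at h2 h3
    omega
  · intro A hA hp
    have h1 := h.small (A.subgroupOf N) ?_ ?_
    · rwa [Nat.card_congr (Subgroup.subgroupOfEquivOfLe (key A hp)).toEquiv] at h1
    · constructor
      constructor
      intro a b
      apply Subtype.ext
      apply Subtype.ext
      have h2 := congrArg Subtype.val (hA.is_comm.comm ⟨a.1.1, a.2⟩ ⟨b.1.1, b.2⟩)
      exact h2
    · intro a
      obtain ⟨k, hk⟩ := hp ⟨a.1.1, a.2⟩
      have h2 := congrArg Subtype.val hk
      exact ⟨k, Subtype.ext (Subtype.ext h2)⟩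

theorem Hyp.of_quot {H : Type v} [Group H] [Finite H] (N : Subgroup H) [N.Normal]
    (hk : ¬ 7 ∣ Nat.card N) (h : Hyp (H ⧸ N)) : Hyp H :=
  Hyp.of_surj (QuotientGroup.mk' N) (QuotientGroup.mk'_surjective N)
    (by rwa [QuotientGroup.ker_mk']) h

theorem Hyp.not_three (h7 : ℕ) {G : Type u} [Group G] (h : Hyp G) (h3 : (Nat.card G).factorization 7 = 3 * h7) :
    False := by
  rw [h.val] at h3
  omega

end Cfsg.Agent.H496.Sev
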